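import Cfsg.Agent.E7Sections.Lift

/-!
Simultaneous lifts of the normaliser of an elementary abelian subgroup.
-/

set_option autoImplicit false

namespace CfsgLib.E8Sections

open CfsgLib.E7Sections

variable {H A : Type} [Group H] [Finite H] [Group A] [Finite A] {ℓ : ℕ} [Fact ℓ.Prime]

/-- Two lifts of an elementary abelian subgroup are conjugate. -/
theorem hom_lift_conj {π : H →* A} (hπ : Function.Surjective π) (hker : ¬ ℓ ∣ Nat.card π.ker)
    {E : Type} [CommGroup E] [Finite E] {k : ℕ} (hE : Nat.card E = ℓ ^ k) {ι : E →* A}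
    (hι : Function.Injective ι) {φ φ' : E →* H} (h : ∀ e, π (φ e) = ι e)
    (h' : ∀ e, π (φ' e) = ι e) : ∃ c, π c ∈ ι.range ∧ ∀ e, c * φ e * c⁻¹ = φ' e := by
  classical
  have hℓp : ℓ.Prime := Fact.out
  set M : Subgroup H := ι.range.comap π
  have hfac : (Nat.card M).factorization ℓ = k := by
    rw [card_comap hπ, ← Nat.card_congr (MonoidHom.ofInjective hι).toEquiv, hE,
      Nat.factorization_mul Nat.card_pos.ne' (pow_ne_zero _ hℓp.ne_zero), Finsupp.add_apply,
      Nat.factorization_eq_zero_of_not_dvd hker, zero_add, hℓp.factorization_pow,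
      Finsupp.single_eq_same]
  have key : ∀ (f : E →* H), (∀ e, π (f e) = ι e) → ∃ (g : E →* M) (S : Sylow ℓ M),
      (∀ e, (g e : H) = f e) ∧ (S : Subgroup M) = g.range := by
    intro f hf
    have hfM : ∀ e, f e ∈ M := fun e => ⟨e, (hf e).symm⟩
    let g : E →* M := f.codRestrict M hfM
    have hg : Function.Injective g := fun a b e => hι (by
      rw [← hf, ← hf, show f a = f b from congrArg Subtype.val e])
    exact ⟨g, Sylow.ofCard g.range (by
      rw [← Nat.card_congr (MonoidHom.ofInjective hg).toEquiv, hE, hfac]), fun e => rfl, rfl⟩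
  obtain ⟨g, S, hg, hS⟩ := key φ h
  obtain ⟨g', S', hg', hS'⟩ := key φ' h'
  obtain ⟨c, hc⟩ := MulAction.exists_smul_eq M S S'
  refine ⟨c, c.2, fun e => ?_⟩
  have h1 : c * g e * c⁻¹ ∈ (S' : Subgroup M) := by
    rw [← hc, Sylow.coe_subgroup_smul]
    exact ⟨_, hS.symm ▸ ⟨e, rfl⟩, rfl⟩
  rw [hS'] at h1
  obtain ⟨e', he'⟩ := h1
  obtain ⟨f, hf⟩ := (show π c ∈ ι.range from c.2)
  have h2 : (c : H) * φ e * (c : H)⁻¹ = φ' e' := by
    rw [← hg, ← hg', he']
    rfl
  have h3 : ι e' = ι e := by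
    rw [← h', ← h2, map_mul, map_mul, map_inv, ← hf, h, ← map_inv, ← map_mul, ← map_mul,
      mul_comm f, mul_inv_cancel_right]
  rw [h2, hι h3]

/-- The normaliser of the base lifts to the normaliser of the lift. -/
theorem exists_norm_lift {π : H →* A} (hπ : Function.Surjective π) (hker : ¬ ℓ ∣ Nat.card π.ker)
    {E : Type} [CommGroup E] [Finite E] {k : ℕ} (hE : Nat.card E = ℓ ^ k) {ι : E →* A}
    (hι : Function.Injective ι) {φ : E →* H} (h : ∀ e, π (φ e) = ι e) {g : A} (M : E → E)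
    (hg : ∀ e, g * ι e * g⁻¹ = ι (M e)) :
    ∃ n, π n = g ∧ ∀ e, n * φ e * n⁻¹ = φ (M e) := by
  obtain ⟨n₀, rfl⟩ := hπ g
  let Mh : E →* E := MonoidHom.mk' M fun a b => hι (by
    rw [← hg, map_mul, map_mul, ← hg, ← hg]; group)
  obtain ⟨c, ⟨j, hj⟩, hc⟩ := hom_lift_conj hπ hker hE (hι.comp (fun a b e => by
    have e' : ι (M a) = ι (M b) := congrArg ι e
    rw [← hg, ← hg] at e'
    exact hι (mul_left_cancel (mul_right_cancel e')) : Function.Injective Mh))
    (φ := (MulAut.conj n₀).toMonoidHom.comp φ) (φ' := φ.comp Mh) (ι := ι.comp Mh)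
    (fun e => by
      show π (n₀ * φ e * n₀⁻¹) = ι (M e)
      rw [map_mul, map_mul, map_inv, h, hg])
    (fun e => h _)
  refine ⟨(φ (M j))⁻¹ * (c * n₀), ?_, fun e => ?_⟩
  · rw [map_mul, map_inv, h, map_mul, ← hj]
    exact inv_mul_cancel_left _ _
  · have e1 : c * n₀ * φ e * (c * n₀)⁻¹ = φ (M e) := by
      rw [← show c * (n₀ * φ e * n₀⁻¹) * c⁻¹ = φ (M e) from hc e]; group
    calc (φ (M j))⁻¹ * (c * n₀) * φ e * ((φ (M j))⁻¹ * (c * n₀))⁻¹
        = (φ (M j))⁻¹ * (c * n₀ * φ e * (c * n₀)⁻¹) * φ (M j) := by group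
      _ = φ (M e) := by
        rw [e1, mul_assoc, ← map_mul, mul_comm (M e), map_mul, inv_mul_cancel_left]

end CfsgLib.E8Sections
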