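import Cfsg.Agent.E8Sections.Table
import Cfsg.Agent.E8Three.Sylow
import Cfsg.Agent.E8Three.ToralMain
import Cfsg.Agent.E7Sections.SectionRank
import Cfsg.Agent.ToralSection.Lift

/-!
No alternating section of degree 19 in `E₈(q)` away from the characteristic 17: a lift of the
element of order 17 would be conjugate to its cube.
-/

set_option autoImplicit false
set_option linter.style.haveILetI false

namespace CfsgLib.E8Sections

open Cfsg.Lie CfsgLib.Chev CfsgLib.Chev.Tab CfsgLib.E8Three Equiv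

/-- The seventeen-subgroups are abelian. -/
theorem commute_seventeen {K : Type} [Field K] [Fintype K] [Fact (Nat.Prime 17)]
    (hq : (Fintype.card K : ZMod (17 ^ 1)) = 1) {Q : Subgroup (GL chevE8.Idx K)}
    (hQG : Q ≤ chevE8.group K) (hQ : IsPGroup 17 Q) {x y : GL chevE8.Idx K} (hx : x ∈ Q)
    (hy : y ∈ Q) : Commute x y := by
  classical
  have hW : (696729600 : ℕ).factorization 17 = 0 :=
    Nat.factorization_eq_zero_of_not_dvd (by decide)
  obtain ⟨a, -, ha⟩ := conj_into_mJ good_E8 Set.univ (K := K) (e := 1) (R := Q)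
    (by rw [E7Sections.card_WJ8, hW]; norm_num) hq
    (fun g hg => group_le_levi_univ good_E8 (hQG hg)) hQ
  let ι : Q →* mJ E8Data.tab good_E8.full K Set.univ :=
    ((MulAut.conj a).toMonoidHom.comp Q.subtype).codRestrict _ fun s => ha s s.2
  let g := (permHom good_E8 Set.univ).comp ι
  have hgW : g.range ≤ good_E8.full.WJ (jList chevE8 Set.univ) := by
    rintro _ ⟨s, rfl⟩
    exact (mJ_act good_E8 (ι s).2).choose_spec.1
  obtain ⟨k, hk⟩ := IsPGroup.iff_card.mp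
    (hQ.of_surjective g.rangeRestrict g.rangeRestrict_surjective)
  have hg : ∀ s : Q, g s = 1 := fun s => by
    have h := Subgroup.card_dvd_of_le hgW
    rw [hk, E7Sections.card_WJ8, (Fact.out : Nat.Prime 17).pow_dvd_iff_le_factorization (by norm_num),
      hW, Nat.le_zero] at h
    rw [h, pow_zero] at hk
    have hb : g.range = ⊥ := Subgroup.card_eq_one.mp hk
    exact Subgroup.mem_bot.mp (hb ▸ ⟨s, rfl⟩)
  have hdiag : ∀ s : Q, ∃ c, E8Data.tab.hT K c = a * (s : GL chevE8.Idx K) * a⁻¹ := fun s => by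
    have h := permHom_ker good_E8 (g := ι s) (hg s)
    rw [good_E8.full.diagonal_eq_range] at h
    exact h
  obtain ⟨c, hc⟩ := hdiag ⟨x, hx⟩
  obtain ⟨c', hc'⟩ := hdiag ⟨y, hy⟩
  refine (MulAut.conj a).injective ?_
  rw [map_mul, map_mul, MulAut.conj_apply, MulAut.conj_apply, ← hc, ← hc', ← map_mul, ← map_mul,
    mul_comm c c']

/-- An element of prime order with a power conjugate to it, over a pair in the image. -/
theorem exists_eigen_elt {H A : Type} [Group H] [Finite H] [Group A] {ℓ g : ℕ} [Fact ℓ.Prime]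
    {π : H →* A} (hπ : Function.Surjective π)
    (hcomm : ∀ Q : Subgroup H, IsPGroup ℓ Q → ∀ x ∈ Q, ∀ y ∈ Q, Commute x y) {a b : A}
    (ha : orderOf a = ℓ) (hba : b * a * b⁻¹ = a ^ g) :
    ∃ z h : H, z ^ ℓ = 1 ∧ z ≠ 1 ∧ h * z = z ^ g * h := by
  classical
  have hℓ : ℓ.Prime := Fact.out
  have ha1 : a ≠ 1 := fun e => by rw [e, orderOf_one] at ha; exact hℓ.ne_one ha.symm
  obtain ⟨Q₀, hQ₀, ⟨x, hxQ, hπx⟩, hlift⟩ := ToralSection.exists_lift π (ℓ := ℓ) ha (hπ a)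
  obtain ⟨h, hπh, hh⟩ := hlift b (hπ b) (by rw [hba]; exact pow_mem (Subgroup.mem_zpowers a) g)
  set Q : Subgroup H := Q₀ ⊓ (Subgroup.zpowers a).comap π
  have hhQ : ∀ y ∈ Q, h * y * h⁻¹ ∈ Q := fun y hy => by
    refine ⟨hh y hy.1, ?_⟩
    obtain ⟨i, hi⟩ := Subgroup.mem_zpowers_iff.1 (show π y ∈ Subgroup.zpowers a from hy.2)
    show π (h * y * h⁻¹) ∈ Subgroup.zpowers a
    rw [map_mul, map_mul, map_inv, hπh, ← hi, ← conj_zpow, hba]
    exact Subgroup.zpow_mem _ (pow_mem (Subgroup.mem_zpowers a) g) i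
  have hc : ∀ y ∈ Q, ∀ z ∈ Q, Commute y z := hcomm Q (hQ₀.to_le inf_le_left)
  let φ : Q →* Q := MonoidHom.mk'
    (fun y => ⟨h * y * h⁻¹ * ((y : H) ^ g)⁻¹, mul_mem (hhQ y y.2) (inv_mem (pow_mem y.2 g))⟩)
    fun y z => Subtype.ext (by
      show h * ((y : H) * z) * h⁻¹ * (((y : H) * z) ^ g)⁻¹ =
        h * y * h⁻¹ * ((y : H) ^ g)⁻¹ * (h * z * h⁻¹ * ((z : H) ^ g)⁻¹)
      have c1 : Commute ((y : H) ^ g)⁻¹ (h * z * h⁻¹) :=
        ((hc _ y.2 _ (hhQ z z.2)).pow_left g).inv_left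
      rw [(hc _ y.2 _ z.2).mul_pow, mul_inv_rev,
        (((hc _ z.2 _ y.2).pow_pow g g).inv_inv).eq,
        mul_assoc (h * y * h⁻¹) ((y : H) ^ g)⁻¹, ← mul_assoc ((y : H) ^ g)⁻¹, c1.eq]
      group)
  have hnsurj : ¬ Function.Surjective φ := fun hs => by
    obtain ⟨y, hy⟩ := hs ⟨x, hxQ, by
      show π x ∈ Subgroup.zpowers a
      rw [hπx]; exact Subgroup.mem_zpowers a⟩
    obtain ⟨i, hi⟩ := Subgroup.mem_zpowers_iff.1 (show π y.1 ∈ Subgroup.zpowers a from y.2.2)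
    have he := congrArg (fun z : Q => π (z : H)) hy
    simp only [φ, MonoidHom.mk'_apply, map_mul, map_inv, map_pow, hπh, hπx] at he
    rw [← hi, ← conj_zpow, hba] at he
    exact ha1 (by rw [← he, mul_inv_eq_one, ← zpow_natCast, ← zpow_natCast, ← zpow_mul, ← zpow_mul,
      mul_comm])
  have hninj : ¬ Function.Injective φ := fun hi => hnsurj (Finite.injective_iff_surjective.1 hi)
  rw [← MonoidHom.ker_eq_bot_iff, ← ne_eq, Subgroup.ne_bot_iff_exists_ne_one] at hninj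
  obtain ⟨⟨y, hy⟩, hy1⟩ := hninj
  have hyne : (y : H) ≠ 1 := fun e => hy1 (Subtype.ext (Subtype.ext e))
  obtain ⟨k, hk⟩ := IsPGroup.iff_orderOf.mp hQ₀ ⟨(y : H), y.2.1⟩
  rw [Subgroup.orderOf_mk] at hk
  obtain ⟨j, rfl⟩ : ∃ j, k = j + 1 := ⟨k - 1, by
    rcases k with _ | k
    · exact absurd (orderOf_eq_one_iff.1 (by simpa using hk)) hyne
    · rfl⟩
  have h0 : h * (y : H) * h⁻¹ = (y : H) ^ g :=
    mul_inv_eq_one.1 (congrArg Subtype.val (MonoidHom.mem_ker.1 hy))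
  refine ⟨(y : H) ^ ℓ ^ j, h, ?_, ?_, ?_⟩
  · rw [← pow_mul, ← pow_succ, ← hk, pow_orderOf_eq_one]
  · intro e
    have := Nat.le_of_dvd (pow_pos hℓ.pos j) (orderOf_dvd_of_pow_eq_one e)
    rw [hk, pow_succ] at this
    have : ℓ ^ j * 2 ≤ ℓ ^ j * ℓ := Nat.mul_le_mul_left _ hℓ.two_le
    have := pow_pos hℓ.pos j
    omega
  · rw [← mul_inv_eq_iff_eq_mul, ← conj_pow, h0, ← pow_mul, ← pow_mul, mul_comm]

/-- A blockwise permutation of nineteen points. -/
def perm19 (σ : Perm (ZMod 17)) (τ : Perm (Fin 2)) : Perm (Fin 19) :=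
  ((Equiv.sumCongr (ZMod.finEquiv 17).symm.toEquiv (Equiv.refl (Fin 2))).trans
    finSumFinEquiv).permCongr (Equiv.Perm.sumCongr σ τ)

/-- The seventeen-cycle. -/
def c17 : Perm (Fin 19) := perm19 (Equiv.addRight 1) 1

/-- A permutation cubing it. -/
def d17 : Perm (Fin 19) := perm19 ((⟨3, 6, by decide, by decide⟩ : (ZMod 17)ˣ).mulLeft) (swap 0 1)

theorem c17_facts : Perm.sign c17 = 1 ∧ Perm.sign d17 = 1 ∧ d17 * c17 = c17 ^ 3 * d17 ∧
    c17 ^ 17 = 1 ∧ c17 ≠ 1 := by decide +kernel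

/-- No section of degree nineteen. -/
theorem no_nineteen {p : ℕ} [Fact p.Prime] {K : Type} [Field K] [Fintype K] [CharP K p]
    (hp : p ≠ 17) (hq : (Fintype.card K : ZMod (17 ^ 1)) = 1)
    {X : Subgroup (GL chevE8.Idx K)} (hX : X ≤ chevE8.group K)
    (π : X →* alternatingGroup (Fin 19)) (hπ : Function.Surjective π) : False := by
  haveI := Fact.mk (show Nat.Prime 17 by norm_num)
  obtain ⟨sc, sd, hdc, hc, hc1⟩ := c17_facts
  let a : alternatingGroup (Fin 19) := ⟨c17, Perm.mem_alternatingGroup.2 sc⟩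
  let b : alternatingGroup (Fin 19) := ⟨d17, Perm.mem_alternatingGroup.2 sd⟩
  have hba : b * a * b⁻¹ = a ^ 3 := by
    rw [mul_inv_eq_iff_eq_mul]
    exact Subtype.ext hdc
  have ha : orderOf a = 17 := by
    rw [← Subgroup.orderOf_coe]; exact orderOf_eq_prime hc hc1
  obtain ⟨z, h, hz, hz1, hzh⟩ := exists_eigen_elt hπ (fun Q hQ x hx y hy => Subtype.ext
    (commute_seventeen hq ((Subgroup.map_subtype_le Q).trans hX) (hQ.map X.subtype) ⟨x, hx, rfl⟩
      ⟨y, hy, rfl⟩).eq) ha hba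
  have h2 := fix_spec (x := (z : GL chevE8.Idx K)) (c := (h : GL chevE8.Idx K))
    (show Nat.Prime 17 by norm_num) (Ne.symm hp) (by norm_num) fix_seventeen (hX z.2)
    (by rw [← Subgroup.coe_pow, hz, Subgroup.coe_one])
    (fun e => hz1 (Subtype.ext e)) (by exact_mod_cast congrArg Subtype.val hzh)
  exact List.not_mem_nil h2

end CfsgLib.E8Sections
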