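import Cfsg.Agent.E8Sections.NoEighteen
import Cfsg.Agent.E8Sections.NoNineteen
import Cfsg.Agent.ToralSection.Basic
import Cfsg.Agent.Chev.ToralChev

/-!
Alternating sections of the groups of type E₈.
-/

set_option autoImplicit false
set_option linter.style.haveILetI false

namespace CfsgLib.E8Sections

open Cfsg.Lie CfsgLib.Chev CfsgLib.Chev.Tab

/-- A field extension with `q ≡ 1` modulo a given prime power. -/
theorem exists_field {F : Type*} [Field F] [Fintype F] {p : ℕ} [CharP F p] {ℓ : ℕ}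
    (hℓ : ℓ.Prime) (hℓp : p ≠ ℓ) (k : ℕ) :
    ∃ (K : Type) (_ : Field K) (_ : Fintype K) (_ : F →+* K),
      (Fintype.card K : ZMod (ℓ ^ k)) = 1 := by
  classical
  have hm : 0 < ℓ ^ k := pow_pos hℓ.pos k
  haveI : NeZero (ℓ ^ k).totient := ⟨(Nat.totient_pos.2 hm).ne'⟩
  have hco : Nat.Coprime (Fintype.card F) (ℓ ^ k) :=
    (hℓ.coprime_iff_not_dvd.2 (Chev.not_dvd_card hℓ hℓp)).symm.pow_right k
  obtain ⟨K, hKf, hKt, f, hK⟩ := Chev.Tab.Good.exists_field_ext (F := F) (ℓ ^ k).totient
  refine ⟨K, hKf, hKt, f, ?_⟩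
  rw [← Nat.cast_one, ZMod.natCast_eq_natCast_iff, hK]
  exact Nat.ModEq.pow_totient hco

/-- Alternating sections of the groups of type E₈. -/
theorem alt_section {F : Type*} [Field F] [Fintype F] {p r : ℕ} [Fact p.Prime] [CharP F p]
    {H : Subgroup (chevE8.group F)} {π : H →* alternatingGroup (Fin r)} (hπ : Function.Surjective π) :
    r ≤ 17 + (if p = 3 then 1 else 0) := by
  classical
  by_contra hr
  have transfer : ∀ n ≤ r, ∀ (K : Type) (_ : Field K) (_ : F →+* K),
      ∃ (X : Subgroup (GL chevE8.Idx K)) (π' : X →* alternatingGroup (Fin n)),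
        X ≤ chevE8.group K ∧ Function.Surjective π' := by
    intro n hn K _ f
    obtain ⟨H1, π1, hπ1⟩ := Chev.good_E8.exists_section_ext f hπ
    obtain ⟨H2, π2, hπ2⟩ := ToralSection.exists_alt_section hn hπ1
    exact ⟨H2.map (chevE8.group K).subtype,
      π2.comp (H2.equivMapOfInjective _ (Subgroup.subtype_injective _)).symm.toMonoidHom,
      Subgroup.map_subtype_le H2, hπ2.comp (MulEquiv.surjective _)⟩
  by_cases h3 : p = 3
  · rw [if_pos h3] at hr
    obtain ⟨K, hKf, hKt, f, hq⟩ := exists_field (F := F) (p := p) (ℓ := 17) (by norm_num) (by omega) 1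
    haveI : CharP K p := charP_of_injective_ringHom f.injective p
    obtain ⟨X, π', hX, hπ'⟩ := transfer 19 (by omega) K hKf f
    exact no_nineteen (p := p) (by omega) hq hX π' hπ'
  · rw [if_neg h3] at hr
    obtain ⟨K, hKf, hKt, f, hq⟩ := exists_field (F := F) (p := p) (ℓ := 3) Nat.prime_three h3 6
    haveI : CharP K p := charP_of_injective_ringHom f.injective p
    obtain ⟨X, π', hX, hπ'⟩ := transfer 18 (by omega) K hKf f
    exact no_eighteen (p := p) h3 hq hX π' hπ'

end CfsgLib.E8Sections
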