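import Cfsg.Agent.E7Sections.Count

/-!
The fixed space of an element of order 3 permuting weight spaces, and the transport of weight spaces.
-/

set_option autoImplicit false

namespace CfsgLib.E8Sections

open Module CfsgLib.E7Sections

variable {K V : Type*} [Field K] [AddCommGroup V] [Module K V] [FiniteDimensional K V]
  {ℓ d : ℕ} [Fact ℓ.Prime] (P : Multiplicative (Fin d → ZMod ℓ) →* Module.End K V)
  {ζ : K} (hζ : IsPrimitiveRoot ζ ℓ)

include hζ in
omit [FiniteDimensional K V] in
theorem prj_wsp (hℓK : (ℓ : K) ≠ 0) {w w' : Fin d → ZMod ℓ} {v : V} (hv : v ∈ wsp P ζ w') :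
    prj P ζ w v = if w = w' then v else 0 := by
  have hv' := (mem_wsp P).mp hv
  have e : ∀ f, chw ζ w (-f) * chw ζ w' f = chw ζ (w' - w) f := fun f => by
    rw [chw, chw, chw, ← pow_add_val hζ]
    congr 2
    simp only [pr, Pi.neg_apply, Pi.sub_apply, neg_mul, Finset.sum_neg_distrib, mul_sub,
      Finset.sum_sub_distrib]
    ring
  have hswap : ∀ f : Fin d → ZMod ℓ, chw ζ (w' - w) f = chw ζ f (w' - w) := fun f => by
    simp only [chw, pr, mul_comm]
  simp only [prj, LinearMap.smul_apply, LinearMap.sum_apply, hv', smul_smul, e, ← Finset.sum_smul,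
    hswap, chw_sum hζ, sub_eq_zero]
  by_cases h : w = w'
  · rw [if_pos h.symm, if_pos h, inv_mul_cancel₀ (pow_ne_zero _ hℓK), one_smul]
  · rw [if_neg (Ne.symm h), if_neg h, mul_zero, zero_smul]

include hζ in
/-- The chosen orbits give a lower bound for the fixed space. -/
theorem fix_ge (hℓK : (ℓ : K) ≠ 0) (h3 : (3 : K) ≠ 0) (Y : Module.End K V) (hY : Y * Y * Y = 1)
    (s : (Fin d → ZMod ℓ) → (Fin d → ZMod ℓ))
    (hs : ∀ w, ∀ v ∈ wsp P ζ w, Y v ∈ wsp P ζ (s w)) (hs3 : ∀ w, s (s (s w)) = w)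
    (R : Finset (Fin d → ZMod ℓ))
    (horb : ∀ w ∈ R, ∀ w' ∈ R, (s w = w' → w = w') ∧ (s (s w) = w' → w = w'))
    (htriv : ∀ w ∈ R, s w = w → ∀ v ∈ wsp P ζ w, Y v = v) :
    ∑ w ∈ R, finrank K (wsp P ζ w) ≤ finrank K (LinearMap.ker (Y - 1)) := by
  classical
  let φ : (∀ w : R, wsp P ζ w.1) →ₗ[K] V :=
    ∑ w : R, (1 + Y + Y * Y).comp ((wsp P ζ w.1).subtype.comp (LinearMap.proj w))
  have hφ : ∀ u, φ u = ∑ w : R, (((u w : wsp P ζ w.1) : V) + Y (u w : wsp P ζ w.1) +
      Y (Y (u w : wsp P ζ w.1))) := fun u => by simp [φ]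
  have hrange : LinearMap.range φ ≤ LinearMap.ker (Y - 1) := by
    rintro _ ⟨u, rfl⟩
    rw [LinearMap.mem_ker, LinearMap.sub_apply, Module.End.one_apply, sub_eq_zero, hφ, map_sum]
    refine Finset.sum_congr rfl fun w _ => ?_
    have h3' : ∀ v, Y (Y (Y v)) = v := fun v => LinearMap.congr_fun hY v
    rw [map_add, map_add, h3']
    abel
  have hinj : Function.Injective φ := by
    rw [← LinearMap.ker_eq_bot, LinearMap.ker_eq_bot']
    intro u hu
    funext w
    rw [hφ] at hu
    have h1 := congrArg (prj P ζ w.1) hu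
    rw [map_sum, map_zero, Finset.sum_eq_single w] at h1
    · set v : V := ((u w : wsp P ζ w.1) : V)
      have hv : v ∈ wsp P ζ w.1 := (u w).2
      rw [map_add, map_add, prj_wsp P hζ hℓK hv, if_pos rfl, prj_wsp P hζ hℓK (hs _ _ hv),
        prj_wsp P hζ hℓK (hs _ _ (hs _ _ hv))] at h1
      refine Subtype.ext ?_
      show v = 0
      by_cases hf : s w.1 = w.1
      · have hYv := htriv _ w.2 hf v hv
        simp only [hf, hYv, if_true] at h1
        have h0 : (3 : K) • v = 0 := by
          linear_combination (norm := module) h1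
        exact (smul_eq_zero.mp h0).resolve_left h3
      · have hf2 : s (s w.1) ≠ w.1 := fun e => hf (by
          conv_lhs => rw [← e]
          rw [hs3])
        rw [if_neg (Ne.symm hf), if_neg (Ne.symm hf2), add_zero, add_zero] at h1
        exact h1
    · intro w' _ hne
      set v : V := ((u w' : wsp P ζ w'.1) : V)
      have hv : v ∈ wsp P ζ w'.1 := (u w').2
      rw [map_add, map_add, prj_wsp P hζ hℓK hv, prj_wsp P hζ hℓK (hs _ _ hv),
        prj_wsp P hζ hℓK (hs _ _ (hs _ _ hv)),
        if_neg fun e => hne (Subtype.ext e.symm),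
        if_neg fun e => hne (Subtype.ext ((horb _ w'.2 _ w.2).1 e.symm)),
        if_neg fun e => hne (Subtype.ext ((horb _ w'.2 _ w.2).2 e.symm)), add_zero, add_zero]
    · simp
  calc ∑ w ∈ R, finrank K (wsp P ζ w) = finrank K (∀ w : R, wsp P ζ w.1) := by
        rw [Module.finrank_pi_fintype, Finset.sum_coe_sort R fun w => finrank K (wsp P ζ w)]
    _ = finrank K (LinearMap.range φ) := (LinearMap.finrank_range_of_inj hinj).symm
    _ ≤ _ := Submodule.finrank_mono hrange

omit [FiniteDimensional K V] in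
/-- An operator twisting the characters maps weight spaces to weight spaces. -/
theorem twist_mem {T : Module.End K V} {M : (Fin d → ZMod ℓ) → (Fin d → ZMod ℓ)}
    (hM : Function.Surjective M) {w w' : Fin d → ZMod ℓ}
    (hT : ∀ e, T * P (Multiplicative.ofAdd e) = P (Multiplicative.ofAdd (M e)) * T)
    (hw : ∀ e, pr (M e) w' = pr e w) {v : V} (hv : v ∈ wsp P ζ w) : T v ∈ wsp P ζ w' := by
  rw [mem_wsp]
  intro e
  obtain ⟨e, rfl⟩ := hM e
  rw [← Module.End.mul_apply, ← hT, Module.End.mul_apply, (mem_wsp P).mp hv e, map_smul]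
  simp only [chw, hw]

end CfsgLib.E8Sections
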