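import Cfsg.Agent.E7Sections.Perms
import Mathlib.GroupTheory.Perm.Sign

/-!
An elementary abelian subgroup of order `3⁶` of the alternating group of degree 18 with its monomial
normaliser, and the orbits of a block three-cycle on the weights.
-/

set_option autoImplicit false

namespace CfsgLib.E8Sections

open Equiv CfsgLib.E7Sections

/-- The vectors. -/
abbrev V6 : Type := Fin 6 → ZMod 3

/-- The monomial data. -/
abbrev Mono : Type := Perm (Fin 6) × (Fin 6 → (ZMod 3)ˣ)

/-- The action on vectors and on weights. -/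
def mv (c : Mono) (e : V6) : V6 := fun j => c.2 (c.1.symm j) * e (c.1.symm j)

theorem mv_apply (c : Mono) (e : V6) (i : Fin 6) : mv c e (c.1 i) = c.2 i * e i := by simp [mv]

theorem units_sq : ∀ u : (ZMod 3)ˣ, (u : ZMod 3) * u = 1 := by decide

theorem pr_mv (c : Mono) (e w : V6) : pr (mv c e) (mv c w) = pr e w := by
  rw [pr, pr, ← Equiv.sum_comp c.1 fun j => mv c e j * mv c w j]
  refine Finset.sum_congr rfl fun i _ => ?_
  rw [mv_apply, mv_apply, mul_mul_mul_comm, units_sq, one_mul]

theorem blk_mul (c d : Mono) :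
    blk c.1 c.2 * blk d.1 d.2 = blk (c.1 * d.1) fun i => c.2 (d.1 i) * d.2 i := by
  refine Equiv.ext fun ⟨i, r⟩ => ?_
  simp only [blk, Equiv.prodShear, Equiv.coe_fn_mk, Equiv.Perm.mul_apply, Units.mulLeft_apply,
    Units.val_mul, mul_assoc]

theorem sign_mulLeft : ∀ u : (ZMod 3)ˣ, Perm.sign (u.mulLeft) = if u = 1 then 1 else -1 := by
  decide +kernel

/-- The sign of a monomial element. -/
def msgn (c : Mono) : ℤˣ := Perm.sign c.1 * ∏ i, if c.2 i = 1 then 1 else -1

theorem sign_blk (c : Mono) : Perm.sign (blk c.1 c.2) = msgn c := by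
  have h1 : blk c.1 c.2 = blk c.1 (1 : Fin 6 → (ZMod 3)ˣ) * blk 1 c.2 :=
    ((blk_mul (c.1, 1) (1, c.2)).trans (by simp only [Pi.one_apply, one_mul, mul_one])).symm
  have h2 : blk (1 : Perm (Fin 6)) c.2 = Equiv.prodCongrRight fun i => (c.2 i).mulLeft :=
    Equiv.ext fun ⟨i, r⟩ => by
      simp only [blk, Equiv.prodShear, Equiv.coe_fn_mk, Equiv.Perm.one_apply, Equiv.prodCongrRight_apply]
  have h3 : blk c.1 (1 : Fin 6 → (ZMod 3)ˣ) = Equiv.prodCongrLeft fun _ : ZMod 3 => c.1 :=
    Equiv.ext fun ⟨i, r⟩ => by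
      simp only [blk, Equiv.prodShear, Equiv.coe_fn_mk, Equiv.prodCongrLeft_apply, Pi.one_apply,
        Units.mulLeft_apply, Units.val_one, one_mul]
  rw [h1, map_mul, h2, h3, Perm.sign_prodCongrRight, Perm.sign_prodCongrLeft, Finset.prod_const,
    Finset.card_univ, ZMod.card, msgn]
  refine congrArg₂ (· * ·) ?_ (Finset.prod_congr rfl fun i _ => sign_mulLeft _)
  rw [pow_succ, Int.units_sq, one_mul]

theorem odd_three : Odd 3 := by decide

/-- The blocks of three points. -/
noncomputable def eqv3 : Fin 6 × ZMod 3 ≃ Fin 18 := finProdFinEquiv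

/-- The translations of six blocks of three. -/
noncomputable def iot3 : Multiplicative V6 →* alternatingGroup (Fin 18) := iot eqv3 odd_three

theorem iot3_injective : Function.Injective iot3 := iot_injective _ _

/-- A monomial element as an even permutation. -/
noncomputable def monoA (c : Mono) (h : msgn c = 1) : alternatingGroup (Fin 18) :=
  ⟨eqv3.permCongr (blk c.1 c.2), by
    rw [Perm.mem_alternatingGroup, Perm.sign_permCongr, sign_blk, h]⟩

theorem monoA_conj (c : Mono) (h : msgn c = 1) (e : V6) :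
    monoA c h * iot3 (Multiplicative.ofAdd e) * (monoA c h)⁻¹ =
      iot3 (Multiplicative.ofAdd (mv c e)) := by
  rw [mul_inv_eq_iff_eq_mul]
  refine Subtype.ext ?_
  show eqv3.permCongr (blk c.1 c.2) * eqv3.permCongr (tr e) =
    eqv3.permCongr (tr (mv c e)) * eqv3.permCongr (blk c.1 c.2)
  rw [← Equiv.permCongr_mul, ← Equiv.permCongr_mul, blk_tr (e' := mv c e) fun i => mv_apply c e i]

theorem msgn_perm (σ : alternatingGroup (Fin 6)) : msgn ((σ : Perm (Fin 6)), 1) = 1 := by
  simp [msgn, Perm.mem_alternatingGroup.1 σ.2]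

/-- The block permutations. -/
noncomputable def beta : alternatingGroup (Fin 6) →* alternatingGroup (Fin 18) :=
  MonoidHom.mk' (fun σ => monoA ((σ : Perm (Fin 6)), 1) (msgn_perm σ)) fun σ τ => Subtype.ext (by
    show eqv3.permCongr (blk ((σ : Perm (Fin 6)) * τ) 1) =
      eqv3.permCongr (blk (σ : Perm (Fin 6)) 1) * eqv3.permCongr (blk (τ : Perm (Fin 6)) 1)
    rw [← Equiv.permCongr_mul, blk_mul ((σ : Perm (Fin 6)), 1) ((τ : Perm (Fin 6)), 1)]
    simp [Pi.one_def])

theorem beta_injective : Function.Injective beta := fun σ τ h => Subtype.ext (Equiv.ext fun i => by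
  have h' : blk (σ : Perm (Fin 6)) (1 : Fin 6 → (ZMod 3)ˣ) = blk (τ : Perm (Fin 6)) 1 :=
    eqv3.permCongr.injective (congrArg Subtype.val h)
  simpa [blk, Equiv.prodShear] using congrArg Prod.fst (Equiv.congr_fun h' (i, 0)))

/-- The representative of a support size. -/
def rep (k : ℕ) : V6 := fun i => if i.val < k then 1 else 0

/-- The size of the support. -/
def sup (e : V6) : ℕ := ((List.finRange 6).filter fun i => decide (e i ≠ 0)).length

/-- A permutation carrying the first positions to the support. -/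
def sortPerm (e : V6) : Perm (Fin 6) :=
  ((((List.finRange 6).filter fun i => decide (e i ≠ 0))).zip (List.finRange 6)).foldl
    (fun τ p => τ * swap p.2 (τ.symm p.1)) 1

/-- A sign as a unit. -/
def unitOf (a : ZMod 3) : (ZMod 3)ˣ := if a = 2 then ⟨2, 2, by decide, by decide⟩ else 1

/-- An even monomial element carrying the representative to a vector. -/
def cand (e : V6) : Mono :=
  let τ := sortPerm e
  let u : Fin 6 → (ZMod 3)ˣ := fun i => unitOf (e (τ i))
  if msgn (τ, u) = 1 then (τ, u)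
  else if e (τ 5) = 0 then (τ, Function.update u 5 (unitOf 2))
  else (τ * swap (0 : Fin 6) 1, fun i => unitOf (e ((τ * swap (0 : Fin 6) 1 : Perm (Fin 6)) i)))

theorem cand_ok : ∀ e : V6, msgn (cand e) = 1 ∧ mv (cand e) (rep (sup e)) = e := by decide +kernel

/-- The block three-cycle. -/
def t3 : Perm (Fin 6) := swap 0 1 * swap 1 2

theorem t3_sign : Perm.sign t3 = 1 := by decide +kernel

/-- The block three-cycle, even. -/
def t3A : alternatingGroup (Fin 6) := ⟨t3, Perm.mem_alternatingGroup.2 t3_sign⟩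

theorem t3A_pow : t3A ^ 3 = 1 := by decide +kernel

theorem t3A_ne : t3A ≠ 1 := by decide +kernel

/-- The action of the block three-cycle on weights. -/
def t3w (w : V6) : V6 := mv (t3, 1) w

/-- The code of a weight. -/
def code (w : V6) : ℕ := ((List.finRange 6).map fun i => (w i).val * 3 ^ i.val).sum

/-- The chosen weights, one in each orbit. -/
def reps : Finset V6 :=
  Finset.univ.filter fun w => ((sup w = 1 ∨ sup w = 2 ∨ sup w = 6) ∧ code w < code (t3w w) ∧
    code w < code (t3w (t3w w))) ∨ (sup w = 6 ∧ t3w w = w)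

theorem t3w_cube : ∀ w : V6, t3w (t3w (t3w w)) = w := by decide +kernel

theorem reps_orbit : ∀ w ∈ reps, ∀ w' ∈ reps,
    (t3w w = w' → w = w') ∧ (t3w (t3w w) = w' → w = w') := by decide +kernel

theorem reps_fixed : ∀ w ∈ reps, t3w w = w → sup w = 6 := by decide +kernel

/-- The multiplicities. -/
def mult (k : ℕ) : ℕ := [12, 4, 1, 0, 0, 0, 2].getD k 0

theorem reps_sum : ∑ w ∈ reps, mult (sup w) = 88 := by decide +kernel

theorem fixed_conj : ∀ w : V6, sup w = 6 → t3w w = w →
    Perm.sign ((cand w).1⁻¹ * t3 * (cand w).1) = 1 ∧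
      ∀ i, (cand w).2 (((cand w).1⁻¹ * t3 * (cand w).1) i) = (cand w).2 i := by decide +kernel

/-- The number of weights of a support size orthogonal to a representative. -/
def nwt (k j : ℕ) : ℕ :=
  (Finset.univ.filter fun w : V6 => pr (rep k) w = 0 ∧ sup w = j).card

/-- The tabulated numbers. -/
def nwt' (k j : ℕ) : ℕ :=
  (([[1, 12, 60, 160, 240, 192, 64], [1, 10, 40, 80, 80, 32, 0], [1, 8, 26, 48, 64, 64, 32], [1, 6, 18, 46, 84, 72, 16], [1, 4, 16, 56, 86, 56, 24], [1, 2, 20, 60, 70, 70, 20], [1, 0, 30, 40, 90, 60, 22]] : List (List ℕ)).getD k []).getD j 0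

theorem nwt_eq : ∀ k : Fin 7, ∀ j : Fin 7, nwt k j = nwt' k j := by decide +kernel

theorem sup_le : ∀ w : V6, sup w < 7 := by decide +kernel

theorem sup_rep : ∀ k : Fin 7, sup (rep k) = k := by decide +kernel

theorem rep_ne : ∀ k : Fin 6, rep (k.val + 1) ≠ 0 := by decide +kernel

/-- The check of one candidate. -/
def solOk (m1 m2 m3 m4 m5 m6 : ℕ) : Bool :=
  let s := 12 * m1 + 60 * m2 + 160 * m3 + 240 * m4 + 192 * m5 + 64 * m6
  !(Nat.ble s 248) || !((List.range 6).all fun k => [134, 92, 86, 80].contains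
      ((248 - s) + nwt' (k + 1) 1 * m1 + nwt' (k + 1) 2 * m2 + nwt' (k + 1) 3 * m3 +
        nwt' (k + 1) 4 * m4 + nwt' (k + 1) 5 * m5 + nwt' (k + 1) 6 * m6)) ||
    (Nat.beq m1 4 && Nat.beq m2 1 && Nat.beq m6 2)

theorem sol_all : ((List.range 21).all fun m1 => (List.range 5).all fun m2 => (List.range 2).all
    fun m3 => (List.range 2).all fun m4 => (List.range 2).all fun m5 => (List.range 4).all
    fun m6 => solOk m1 m2 m3 m4 m5 m6) = true := by decide +kernel

theorem sol {m1 m2 m3 m4 m5 m6 : ℕ}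
    (hs : 12 * m1 + 60 * m2 + 160 * m3 + 240 * m4 + 192 * m5 + 64 * m6 ≤ 248)
    (hk : ∀ k < 6, (248 - (12 * m1 + 60 * m2 + 160 * m3 + 240 * m4 + 192 * m5 + 64 * m6)) +
        nwt' (k + 1) 1 * m1 + nwt' (k + 1) 2 * m2 + nwt' (k + 1) 3 * m3 +
        nwt' (k + 1) 4 * m4 + nwt' (k + 1) 5 * m5 + nwt' (k + 1) 6 * m6 ∈ [134, 92, 86, 80]) :
    m1 = 4 ∧ m2 = 1 ∧ m6 = 2 := by
  have h := sol_all
  simp only [List.all_eq_true, List.mem_range] at h
  have h' := h m1 (by omega) m2 (by omega) m3 (by omega) m4 (by omega) m5 (by omega) m6 (by omega)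
  simp only [solOk, Bool.or_eq_true, Bool.and_eq_true, Bool.not_eq_true', List.all_eq_false,
    List.mem_range, List.contains_iff_mem, Nat.beq_eq] at h'
  rcases h' with (h1 | ⟨k, hk6, h2⟩) | ⟨⟨h1, h2⟩, h3⟩
  · rw [show Nat.ble _ 248 = true from Nat.ble_eq_true_of_le hs] at h1
    exact Bool.noConfusion h1
  · exact absurd (hk k hk6) (by simpa using h2)
  · exact ⟨h1, h2, h3⟩

/-- The transposition of the first nine points, corrected to be even. -/
def trsFun (p : Fin 6 × ZMod 3) : Fin 6 × ZMod 3 :=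
  if p.1.val < 3 then (⟨p.2.val, Nat.lt_trans p.2.val_lt (by norm_num)⟩, (p.1.val : ZMod 3))
  else (swap (3 : Fin 6) 4 p.1, p.2)

theorem trsFun_inv : ∀ p, trsFun (trsFun p) = p := by decide +kernel

/-- The transposition as a permutation. -/
def trsPerm : Perm (Fin 6 × ZMod 3) := Function.Involutive.toPerm trsFun trsFun_inv

theorem trsPerm_ok : Perm.sign trsPerm = 1 ∧
    trsPerm * tr (rep 3) * trsPerm⁻¹ = blk t3 1 := by decide +kernel

theorem conj_rep_three : ∃ g : alternatingGroup (Fin 18),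
    g * iot3 (Multiplicative.ofAdd (rep 3)) * g⁻¹ = beta t3A := by
  refine ⟨⟨eqv3.permCongr trsPerm, by
    rw [Perm.mem_alternatingGroup, Perm.sign_permCongr, trsPerm_ok.1]⟩, ?_⟩
  rw [mul_inv_eq_iff_eq_mul]
  refine Subtype.ext ?_
  show eqv3.permCongr trsPerm * eqv3.permCongr (tr (rep 3)) =
    eqv3.permCongr (blk t3 1) * eqv3.permCongr trsPerm
  rw [← Equiv.permCongr_mul, ← Equiv.permCongr_mul, ← trsPerm_ok.2, inv_mul_cancel_right]

end CfsgLib.E8Sections
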