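import Cfsg.Agent.AltSection.Reduce
import Mathlib.GroupTheory.PGroup
import Mathlib.GroupTheory.Sylow
import Mathlib.RingTheory.IntegralDomain
import Mathlib.LinearAlgebra.Matrix.Determinant.Basic

/-!
The alternating group of degree 6 has no nontrivial representation of degree 2 away from the
characteristic 3, also up to covers.
-/

set_option autoImplicit false
set_option linter.style.haveILetI false

namespace CfsgLib.E8Sections

open Matrix
open scoped commutatorElement

variable {R : Type} [Field R]

/-- A matrix commuting with a non-scalar one is a polynomial in it. -/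
theorem exists_lin_of_commute {Z g : Matrix (Fin 2) (Fin 2) R}
    (hns : ∀ c : R, Z ≠ c • 1) (h : Commute g Z) : ∃ a b : R, g = a • 1 + b • Z := by
  have e01 := congrFun (congrFun h.eq 0) 1
  have e10 := congrFun (congrFun h.eq 1) 0
  have e00 := congrFun (congrFun h.eq 0) 0
  simp only [Matrix.mul_apply, Fin.sum_univ_two] at e01 e10 e00
  by_cases hq : Z 0 1 = 0
  · by_cases hr : Z 1 0 = 0
    · have hd : Z 0 0 - Z 1 1 ≠ 0 := fun h0 => hns (Z 0 0) (by
        ext i j
        fin_cases i <;> fin_cases j <;> simp [hq, hr, sub_eq_zero.1 h0])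
      have h01 : g 0 1 = 0 := (mul_eq_zero.1
        (show g 0 1 * (Z 0 0 - Z 1 1) = 0 by rw [hq] at e01; linear_combination -e01)).resolve_right hd
      have h10 : g 1 0 = 0 := (mul_eq_zero.1
        (show g 1 0 * (Z 0 0 - Z 1 1) = 0 by rw [hr] at e10; linear_combination e10)).resolve_right hd
      refine ⟨g 0 0 - (g 0 0 - g 1 1) / (Z 0 0 - Z 1 1) * Z 0 0,
        (g 0 0 - g 1 1) / (Z 0 0 - Z 1 1), ?_⟩
      ext i j
      fin_cases i <;> fin_cases j <;> simp [hq, hr, h01, h10] <;> field_simp <;> ring
    · refine ⟨g 1 1 - g 1 0 / Z 1 0 * Z 1 1, g 1 0 / Z 1 0, ?_⟩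
      rw [hq] at e00
      have h01 : g 0 1 = 0 := (mul_eq_zero.1
        (show g 0 1 * Z 1 0 = 0 by linear_combination e00)).resolve_right hr
      ext i j
      fin_cases i <;> fin_cases j <;> simp [hq, h01] <;> field_simp <;>
        first | ring1 | linear_combination e10 | linear_combination -e10
  · refine ⟨g 1 1 - g 0 1 / Z 0 1 * Z 1 1, g 0 1 / Z 0 1, ?_⟩
    ext i j
    fin_cases i <;> fin_cases j <;> simp <;> field_simp <;>
      first | ring1 | linear_combination e01 | linear_combination -e01 | linear_combination e00 |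
        linear_combination -e00

/-- A finite `3`-group of unimodular matrices of size 2 is cyclic away from the characteristic 3. -/
theorem isCyclic_three {P : Type} [Group P] [Finite P] (hP : IsPGroup 3 P)
    (ρ : P →* Matrix (Fin 2) (Fin 2) R) (hρ : Function.Injective ρ) (hdet : ∀ g, (ρ g).det = 1)
    (h3 : (3 : R) ≠ 0) : IsCyclic P := by
  classical
  haveI : Fact (Nat.Prime 3) := ⟨Nat.prime_three⟩
  rcases subsingleton_or_nontrivial P with hs | hn
  · exact isCyclic_of_subsingleton
  haveI := hP.center_nontrivial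
  obtain ⟨k, hk0, hk⟩ := (hP.to_subgroup (Subgroup.center P)).nontrivial_iff_card.1 inferInstance
  obtain ⟨⟨z, hzc⟩, hz⟩ := exists_prime_orderOf_dvd_card' (G := Subgroup.center P) 3
    (hk ▸ dvd_pow_self 3 hk0.ne')
  rw [Subgroup.orderOf_mk] at hz
  set Z := ρ z
  have hz3 : Z * Z * Z = 1 := by
    rw [← map_mul, ← map_mul, ← pow_three', ← hz, pow_orderOf_eq_one, map_one]
  have hz1 : Z ≠ 1 := fun e => by
    have : z = 1 := hρ (e.trans (map_one ρ).symm)
    rw [this, orderOf_one] at hz
    omega
  have hd := hdet z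
  rw [Matrix.det_fin_two] at hd
  replace hd : Z 0 0 * Z 1 1 - Z 0 1 * Z 1 0 = 1 := hd
  set t := Z 0 0 + Z 1 1
  have hCH : Z * Z = t • Z - 1 := by
    ext i j
    fin_cases i <;> fin_cases j <;> simp [Matrix.mul_apply, Fin.sum_univ_two, t] <;>
      first | ring1 | linear_combination -hd | linear_combination hd
  have hns : ∀ c : R, Z ≠ c • 1 := fun c e => by
    have e3 := hz3
    rw [e] at e3 hd
    have h1 := congrFun (congrFun e3 0) 0
    simp at h1 hd
    have : c = 1 := by linear_combination h1 - c * hd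
    exact hz1 (by rw [e, this, one_smul])
  have ht : t = -1 := by
    have e : (t * t - 1) • Z = (1 + t) • (1 : Matrix (Fin 2) (Fin 2) R) := by
      have h := hz3
      rw [hCH, sub_mul, smul_mul_assoc, hCH, one_mul, smul_sub, smul_smul] at h
      linear_combination (norm := module) h
    by_contra hne
    have hne' : 1 + t ≠ 0 := fun h => hne (by linear_combination h)
    by_cases h1 : t * t - 1 = 0
    · rw [h1, zero_smul] at e
      exact hne' (by simpa using congrFun (congrFun e.symm 0) 0)
    · exact hns ((t * t - 1)⁻¹ * (1 + t)) (by rw [← smul_smul, ← e, smul_smul, inv_mul_cancel₀ h1,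
        one_smul])
  have hZ2 : Z * Z = -Z - 1 := by rw [hCH, ht, neg_smul, one_smul]
  have hlin : ∀ g, ∃ a b : R, ρ g = a • 1 + b • Z := fun g => exists_lin_of_commute hns (by
    show ρ g * ρ z = ρ z * ρ g
    rw [← map_mul, ← map_mul, (Subgroup.mem_center_iff.1 hzc g)])
  choose a b hab using hlin
  have huniq : ∀ x y x' y' : R, x • (1 : Matrix (Fin 2) (Fin 2) R) + y • Z = x' • 1 + y' • Z →
      x = x' ∧ y = y' := fun x y x' y' e => by
    have hy : y = y' := by
      by_contra hy
      refine hns ((y - y')⁻¹ * (x' - x)) ?_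
      have h0 : y - y' ≠ 0 := sub_ne_zero.2 hy
      have e' : (y - y') • Z = (x' - x) • (1 : Matrix (Fin 2) (Fin 2) R) := by
        rw [sub_smul, sub_smul, eq_sub_iff_add_eq, sub_add_eq_add_sub, sub_eq_iff_eq_add,
          add_comm, e]
      rw [← smul_smul, ← e', smul_smul, inv_mul_cancel₀ h0, one_smul]
    subst hy
    have := congrFun (congrFun ((add_left_inj (G := Matrix (Fin 2) (Fin 2) R) _).1 e) 0) 0
    exact ⟨by simpa using this, rfl⟩
  obtain ⟨ω, hω⟩ : ∃ ω : AlgebraicClosure R, ω * ω + ω + 1 = 0 := by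
    obtain ⟨ω, hω⟩ := IsAlgClosed.exists_root
      (Polynomial.X ^ 2 + Polynomial.X + 1 : Polynomial (AlgebraicClosure R)) (by
        rw [Polynomial.degree_eq_natDegree]
        · have : (Polynomial.X ^ 2 + Polynomial.X + 1 : Polynomial (AlgebraicClosure R)).natDegree = 2 := by
            compute_degree!
          rw [this]; decide
        · intro h0
          have := congrArg (fun q : Polynomial (AlgebraicClosure R) => q.coeff 2) h0
          simp [Polynomial.coeff_one, Polynomial.coeff_X] at this)
    exact ⟨ω, by simpa [pow_two] using hω⟩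
  set f := algebraMap R (AlgebraicClosure R)
  let χ : P →* AlgebraicClosure R :=
    { toFun := fun g => f (a g) + f (b g) * ω
      map_one' := by
        obtain ⟨h1, h2⟩ := huniq (a 1) (b 1) 1 0 (by rw [← hab, map_one]; simp)
        simp [h1, h2]
      map_mul' := fun g h => by
        obtain ⟨h1, h2⟩ := huniq (a (g * h)) (b (g * h)) (a g * a h - b g * b h)
          (a g * b h + b g * a h - b g * b h) (by
          rw [← hab, map_mul, hab g, hab h]
          simp only [add_mul, mul_add, smul_mul_assoc, mul_smul_comm, one_mul, mul_one, hZ2,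
            smul_add, smul_sub, smul_neg, smul_smul, add_smul, sub_smul]
          rw [mul_comm (a h) (b g), mul_comm (b g) (b h)]
          module)
        rw [h1, h2, map_sub, map_sub, map_add, map_mul, map_mul, map_mul, map_mul]
        linear_combination (-(f (b g) * f (b h))) * hω }
  refine isCyclic_of_injective_ringHom χ ((injective_iff_map_eq_one χ).2 fun g hg => hρ ?_)
  have hg' : f (a g) + f (b g) * ω = 1 := hg
  have hdg := hdet g
  rw [hab g, Matrix.det_fin_two] at hdg
  simp only [Matrix.add_apply, Matrix.smul_apply, Matrix.one_apply_eq, smul_eq_mul, mul_one, ne_eq,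
    zero_ne_one, not_false_eq_true, Matrix.one_apply_ne, mul_zero, zero_add, one_ne_zero] at hdg
  have hN : a g * a g + a g * b g * t + b g * b g = 1 := by
    rw [show t = Z 0 0 + Z 1 1 from rfl]
    linear_combination hdg - b g * b g * hd
  rw [ht] at hN
  have hN' := congrArg f hN
  simp only [map_add, map_mul, map_one, map_neg] at hN'
  have hprod : (f (a g) + f (b g) * ω) * (f (a g) + f (b g) * (-1 - ω)) = 1 := by
    linear_combination hN' - f (b g) * f (b g) * hω
  rw [hg', one_mul] at hprod
  have h21 : (2 * ω + 1) ≠ 0 := fun e => h3 (f.injective (by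
    rw [map_zero, map_ofNat]
    linear_combination 4 * hω - (2 * ω + 1) * e))
  have hb : f (b g) * (2 * ω + 1) = 0 := by linear_combination hg' - hprod
  have hb0 : b g = 0 := f.injective (by
    rw [map_zero]; exact (mul_eq_zero.1 hb).resolve_right h21)
  rw [hb0, map_zero, zero_mul, add_zero, ← map_one f] at hg'
  rw [hab, hb0, f.injective hg', one_smul, zero_smul, add_zero, map_one]

theorem isCyclic_image {P : Type} [Group P] [Finite P] (hP : IsPGroup 3 P)
    (ρ : P →* Matrix (Fin 2) (Fin 2) R) (hdet : ∀ g, (ρ g).det = 1) (h3 : (3 : R) ≠ 0) :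
    IsCyclic ρ.toHomUnits.range := by
  have hp : IsPGroup 3 ρ.toHomUnits.range :=
    hP.of_surjective ρ.toHomUnits.rangeRestrict ρ.toHomUnits.rangeRestrict_surjective
  let σ : ρ.toHomUnits.range →* Matrix (Fin 2) (Fin 2) R :=
    (Units.coeHom _).comp ρ.toHomUnits.range.subtype
  have hσ : Function.Injective σ := fun x y h => Subtype.ext (Units.ext h)
  haveI : Finite ρ.toHomUnits.range :=
    Finite.of_surjective _ ρ.toHomUnits.rangeRestrict_surjective
  exact isCyclic_three hp σ hσ (by rintro ⟨_, x, rfl⟩; exact hdet x) h3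

theorem no_nine (g : alternatingGroup (Fin 6)) : orderOf g ≠ 9 := fun h => by
  rw [← Subgroup.orderOf_coe, ← Equiv.Perm.lcm_cycleType] at h
  have h3 : (g : Equiv.Perm (Fin 6)).cycleType.lcm ∣ 3 := Multiset.lcm_dvd.2 fun n hn => by
    have h9 : n ∣ 9 := h ▸ Multiset.dvd_lcm hn
    have h6 : n ≤ 6 := (Equiv.Perm.le_card_support_of_mem_cycleType hn).trans
      ((Finset.card_le_univ _).trans (by rw [Fintype.card_fin]))
    have h0 : 0 < n := Nat.pos_of_dvd_of_pos h9 (by norm_num)
    interval_cases n <;> omega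
  rw [h] at h3
  omega

/-- A perfect cover of `A₆` acts trivially on two dimensions away from the characteristic 3. -/
theorem trivial_two {L : Type} [Group L] [Finite L] (π : L →* alternatingGroup (Fin 6))
    (hπ : Function.Surjective π) (hL : ∀ M : Subgroup L, M.map π = ⊤ → M = ⊤)
    (ρ : L →* Matrix (Fin 2) (Fin 2) R) (h3 : (3 : R) ≠ 0) : ∀ g, ρ g = 1 := by
  classical
  haveI : IsSimpleGroup (alternatingGroup (Fin 6)) :=
    alternatingGroup.isSimpleGroup (by rw [Nat.card_eq_fintype_card, Fintype.card_fin]; omega)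
  haveI : Fact (Nat.Prime 3) := ⟨Nat.prime_three⟩
  have hN : ∀ M : Subgroup L, M.Normal → M ≤ π.ker ∨ M = ⊤ := fun M hM => by
    rcases (hM.map π hπ).eq_bot_or_eq_top with h | h
    · exact Or.inl ((Subgroup.map_eq_bot_iff _).1 h)
    · exact Or.inr (hL M h)
  rcases hN ρ.ker inferInstance with hle | htop
  swap
  · exact fun g => (htop ▸ Subgroup.mem_top g : g ∈ ρ.ker)
  exfalso
  have hperf : commutator L = ⊤ := by
    refine (hN _ inferInstance).resolve_left fun h =>
      AltSection.not_all_commute (r := 6) (by omega) fun x y => ?_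
    obtain ⟨a, rfl⟩ := hπ x
    obtain ⟨b, rfl⟩ := hπ y
    have hmem : ⁅a, b⁆ ∈ π.ker := h (Subgroup.commutator_mem_commutator (Subgroup.mem_top a)
      (Subgroup.mem_top b))
    rw [MonoidHom.mem_ker, map_commutatorElement, commutatorElement_eq_one_iff_mul_comm] at hmem
    exact hmem
  let d : L →* Rˣ := (Units.map (Matrix.detMonoidHom (n := Fin 2) (R := R))).comp ρ.toHomUnits
  have hdet : ∀ g, (ρ g).det = 1 := fun g => by
    have h : g ∈ d.ker := Abelianization.commutator_subset_ker d (hperf ▸ Subgroup.mem_top g)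
    exact congrArg Units.val (MonoidHom.mem_ker.1 h)
  obtain ⟨P⟩ : Nonempty (Sylow 3 L) := inferInstance
  let ρP : P →* Matrix (Fin 2) (Fin 2) R := ρ.comp (P : Subgroup L).subtype
  haveI : IsCyclic ρP.toHomUnits.range := isCyclic_image P.2 ρP (fun g => hdet g) h3
  let Q : Sylow 3 (alternatingGroup (Fin 6)) := P.mapSurjective hπ
  let g₀ : (P : Subgroup L) →* (Q : Subgroup (alternatingGroup (Fin 6))) :=
    (π.comp (P : Subgroup L).subtype).codRestrict _ fun x => Subgroup.mem_map_of_mem π x.2
  have hg₀ : ρP.toHomUnits.rangeRestrict.ker ≤ g₀.ker := fun x hx => by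
    have h1 : ρ (x : L) = 1 := congrArg (fun u => ((u : (Matrix (Fin 2) (Fin 2) R)ˣ) :
      Matrix (Fin 2) (Fin 2) R)) (congrArg Subtype.val (MonoidHom.mem_ker.1 hx))
    exact MonoidHom.mem_ker.2 (Subtype.ext (hle (MonoidHom.mem_ker.2 h1)))
  let ψ : ρP.toHomUnits.range →* (Q : Subgroup (alternatingGroup (Fin 6))) :=
    ρP.toHomUnits.rangeRestrict.liftOfSurjective ρP.toHomUnits.rangeRestrict_surjective ⟨g₀, hg₀⟩
  have hψ : Function.Surjective ψ := by
    rintro ⟨y, x, hx, rfl⟩
    exact ⟨ρP.toHomUnits.rangeRestrict ⟨x, hx⟩,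
      MonoidHom.liftOfRightInverse_comp_apply _ _ _ ⟨g₀, hg₀⟩ _⟩
  have hQ : Nat.card (Q : Subgroup (alternatingGroup (Fin 6))) = 9 := by
    rw [Q.card_eq_multiplicity, nat_card_alternatingGroup, Nat.card_eq_fintype_card,
      Fintype.card_fin]
    rw [show (Nat.factorial 6 / 2 : ℕ) = 3 ^ 2 * 40 by decide,
      Nat.factorization_mul (by norm_num) (by norm_num), Finsupp.add_apply,
      Nat.Prime.factorization_pow Nat.prime_three, Finsupp.single_eq_same,
      Nat.factorization_eq_zero_of_not_dvd (by norm_num)]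
    norm_num
  haveI : IsCyclic (Q : Subgroup (alternatingGroup (Fin 6))) := isCyclic_of_surjective ψ hψ
  obtain ⟨q, hq⟩ := IsCyclic.exists_ofOrder_eq_natCard (α := (Q : Subgroup (alternatingGroup (Fin 6))))
  rw [hQ, ← Subgroup.orderOf_coe] at hq
  exact absurd hq (no_nine _)

end CfsgLib.E8Sections
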