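import Cfsg.Agent.E8Sections.Table
import Cfsg.Agent.E8Sections.Perms
import Cfsg.Agent.E8Sections.Orbit
import Cfsg.Agent.E8Sections.LiftFamily
import Cfsg.Agent.E8Sections.SLTwo

/-!
No alternating section of degree 18 in `E₈(q)` away from the characteristic 3: the weight spaces of
the lift of `3⁶` would give a lifted block three-cycle a fixed space of dimension at least 88, while
the elements of its class fix only 86 dimensions.
-/

set_option autoImplicit false
set_option linter.style.haveILetI false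

namespace CfsgLib.E8Sections

open Cfsg.Lie CfsgLib.Chev CfsgLib.Chev.Tab CfsgLib.E8Three CfsgLib.E7Sections Module Equiv

/-- The matrices acting on vectors. -/
noncomputable def actHom (Ω : Type) [Field Ω] :
    GL chevE8.Idx Ω →* Module.End Ω (chevE8.Idx → Ω) :=
  (Matrix.toLinAlgEquiv' (R := Ω) (n := chevE8.Idx)).toAlgHom.toRingHom.toMonoidHom.comp
    (Units.coeHom _)

theorem actHom_apply {Ω : Type} [Field Ω] (g : GL chevE8.Idx Ω) (v : chevE8.Idx → Ω) :
    actHom Ω g v = Matrix.mulVec (g : Matrix chevE8.Idx chevE8.Idx Ω) v := by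
  simp [actHom, Matrix.toLinAlgEquiv'_apply]

theorem ker_actHom {Ω : Type} [Field Ω] (g : GL chevE8.Idx Ω) :
    LinearMap.ker (actHom Ω g - 1) =
      jsp (g : Matrix chevE8.Idx chevE8.Idx Ω) (g : Matrix chevE8.Idx chevE8.Idx Ω) 1 1 := by
  ext v
  rw [LinearMap.mem_ker, LinearMap.sub_apply, Module.End.one_apply, sub_eq_zero, actHom_apply,
    mem_jsp, one_smul, and_self]

section Counting

variable {Ω V : Type} [Field Ω] [AddCommGroup V] [Module Ω V] [FiniteDimensional Ω V]
  [Fact (Nat.Prime 3)] {ζ : Ω} (P : Multiplicative V6 →* Module.End Ω V)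

/-- The fixed dimensions as combinations of the multiplicities. -/
theorem fix_rep (hζ : IsPrimitiveRoot ζ 3) (h3 : ((3 : ℕ) : Ω) ≠ 0) (m : ℕ → ℕ)
    (hm : ∀ w, finrank Ω (wsp P ζ w) = m (sup w)) (k : Fin 7) :
    finrank Ω (fixSp P (rep k)) = ∑ j : Fin 7, nwt' k j * m j := by
  classical
  rw [finrank_fix hζ P h3, Finset.sum_congr rfl fun w _ => hm w,
    ← Finset.sum_fiberwise (Finset.univ.filter fun w => pr (rep k) w = 0)
      (fun w => (⟨sup w, sup_le w⟩ : Fin 7)) fun w => m (sup w)]
  refine Finset.sum_congr rfl fun j _ => ?_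
  rw [Finset.sum_congr rfl (g := fun _ => m j.val) fun w hw => by
      rw [← (Finset.mem_filter.mp hw).2],
    Finset.sum_const, smul_eq_mul, Finset.filter_filter, ← nwt_eq, nwt]
  simp only [Fin.ext_iff]

/-- The multiplicities are forced. -/
theorem mult_forced (hζ : IsPrimitiveRoot ζ 3) (h3 : ((3 : ℕ) : Ω) ≠ 0) (m : ℕ → ℕ)
    (hm : ∀ w, finrank Ω (wsp P ζ w) = m (sup w)) (hV : finrank Ω V = 248)
    (hF : ∀ k : Fin 6, finrank Ω (fixSp P (rep (k.val + 1))) ∈ [134, 92, 86, 80]) :
    m 1 = mult 1 ∧ m 2 = mult 2 ∧ m 6 = mult 6 ∧ finrank Ω (fixSp P (rep 3)) = 86 := by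
  have h0 := fix_rep P hζ h3 m hm 0
  rw [show fixSp P (rep (0 : Fin 7).val) = ⊤ by
      rw [show rep (0 : Fin 7).val = 0 from funext fun i => by simp [rep]]
      simp [fixSp], finrank_top, hV] at h0
  simp only [Fin.sum_univ_seven] at h0
  have hn : ∀ j : Fin 7, nwt' (0 : Fin 7).val j = [1, 12, 60, 160, 240, 192, 64].getD j 0 := fun j =>
    rfl
  simp only [hn] at h0
  simp at h0
  have hk : ∀ k : ℕ, k < 6 → finrank Ω (fixSp P (rep (k + 1))) =
      (248 - (12 * m 1 + 60 * m 2 + 160 * m 3 + 240 * m 4 + 192 * m 5 + 64 * m 6)) +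
        nwt' (k + 1) 1 * m 1 + nwt' (k + 1) 2 * m 2 + nwt' (k + 1) 3 * m 3 +
        nwt' (k + 1) 4 * m 4 + nwt' (k + 1) 5 * m 5 + nwt' (k + 1) 6 * m 6 := by
    intro k hk
    have h := fix_rep P hζ h3 m hm ⟨k + 1, by omega⟩
    simp only [Fin.sum_univ_seven] at h
    rw [h]
    have e0 : nwt' (k + 1) 0 = 1 := by interval_cases k <;> rfl
    show nwt' (k + 1) 0 * m 0 + nwt' (k + 1) 1 * m 1 + nwt' (k + 1) 2 * m 2 + nwt' (k + 1) 3 * m 3 +
      nwt' (k + 1) 4 * m 4 + nwt' (k + 1) 5 * m 5 + nwt' (k + 1) 6 * m 6 = _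
    rw [e0]
    omega
  obtain ⟨h1, h2, h6⟩ := sol (m1 := m 1) (m2 := m 2) (m3 := m 3) (m4 := m 4) (m5 := m 5)
    (m6 := m 6) (by omega) fun k hk' => hk k hk' ▸ hF ⟨k, hk'⟩
  refine ⟨h1, h2, h6, ?_⟩
  have h3' := hk 2 (by norm_num)
  have hopt := hF ⟨2, by norm_num⟩
  rw [h3'] at hopt ⊢
  simp only [show nwt' (2 + 1) 1 = 6 from rfl, show nwt' (2 + 1) 2 = 18 from rfl,
    show nwt' (2 + 1) 3 = 46 from rfl, show nwt' (2 + 1) 4 = 84 from rfl,
    show nwt' (2 + 1) 5 = 72 from rfl, show nwt' (2 + 1) 6 = 16 from rfl, h1, h2, h6,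
    List.mem_cons, List.not_mem_nil, or_false] at hopt ⊢
  omega

end Counting

variable {K : Type} [Field K] [Fintype K]

/-- No section of degree eighteen. -/
theorem no_eighteen {p : ℕ} [Fact p.Prime] [CharP K p] (hp3 : p ≠ 3)
    (hq : (Fintype.card K : ZMod (3 ^ 6)) = 1)
    {X₀ : Subgroup (GL chevE8.Idx K)} (hX₀ : X₀ ≤ chevE8.group K)
    (π₀ : X₀ →* alternatingGroup (Fin 18)) (hπ₀ : Function.Surjective π₀) : False := by
  classical
  haveI := Fact.mk (show Nat.Prime 3 by norm_num)
  have hp : p.Prime := Fact.out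
  -- a minimal subgroup
  let S : Set ℕ := {c | ∃ (H : Subgroup (GL chevE8.Idx K)) (π : H →* alternatingGroup (Fin 18)),
    H ≤ X₀ ∧ Function.Surjective π ∧ Nat.card H = c}
  obtain ⟨H, π, hHX, hπ, hcard⟩ : sInf S ∈ S := Nat.sInf_mem ⟨_, X₀, π₀, le_rfl, hπ₀, rfl⟩
  have hL : ∀ L : Subgroup H, L.map π = ⊤ → L = ⊤ := by
    intro L h
    let e := L.equivMapOfInjective H.subtype H.subtype_injective
    have hs : Function.Surjective (π.comp L.subtype) := fun a => by
      obtain ⟨y, hy, rfl⟩ := (h.symm ▸ Subgroup.mem_top a : a ∈ L.map π)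
      exact ⟨(⟨y, hy⟩ : L), rfl⟩
    have h1 : sInf S ≤ Nat.card (L.map H.subtype) := Nat.sInf_le
      ⟨_, (π.comp L.subtype).comp e.symm.toMonoidHom, (Subgroup.map_subtype_le L).trans hHX,
        hs.comp e.symm.surjective, rfl⟩
    rw [Subgroup.card_map_of_injective H.subtype_injective, ← hcard] at h1
    exact Subgroup.eq_top_of_card_eq L (le_antisymm (Subgroup.card_le_card_group L) h1)
  have hW : (696729600 : ℕ).factorization 3 ≤ 5 := by
    by_contra h
    have h6 : 3 ^ 6 ∣ 696729600 :=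
      (Nat.prime_three.pow_dvd_iff_le_factorization (by norm_num)).mpr (by omega)
    revert h6; decide
  have hker : ¬ 3 ∣ Nat.card π.ker := ker_prime_to_of_bound (k₀ := 5) le_rfl hW hq (by norm_num)
    (hHX.trans hX₀) π hπ hL
  have hE : Nat.card (Multiplicative V6) = 3 ^ 6 := by
    rw [Nat.card_congr Multiplicative.toAdd, Nat.card_fun, Nat.card_zmod, Nat.card_fin]
  obtain ⟨φ, hφ⟩ := exists_hom_lift hπ hker hE iot3 iot3_injective
  -- the operators
  set f := algebraMap K (AlgebraicClosure K)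
  haveI : CharP (AlgebraicClosure K) p := charP_of_injective_ringHom f.injective p
  have h3Ω : ((3 : ℕ) : AlgebraicClosure K) ≠ 0 :=
    AltSection.natCast_ne_zero_of_prime hp Nat.prime_three hp3
  obtain ⟨ζ, hζ⟩ := AltSection.exists_root h3Ω
  let act : H →* Module.End (AlgebraicClosure K) (chevE8.Idx → AlgebraicClosure K) :=
    (actHom (AlgebraicClosure K)).comp ((glMap chevE8 f).comp H.subtype)
  have hact_inj : ∀ h : H, Function.Injective (act h) := fun h a b e => by
    have := congrArg (act h⁻¹) e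
    rwa [← Module.End.mul_apply, ← Module.End.mul_apply, ← map_mul, inv_mul_cancel, map_one] at this
  let P : Multiplicative V6 →* Module.End (AlgebraicClosure K) (chevE8.Idx → AlgebraicClosure K) :=
    act.comp φ
  have hV : finrank (AlgebraicClosure K) (chevE8.Idx → AlgebraicClosure K) = 248 := by
    rw [Module.finrank_fintype_fun_eq_card, card_idx]
  -- monomial elements of the normaliser
  have hnorm : ∀ (c : Mono) (hc : msgn c = 1), ∃ n : H, π n = monoA c hc ∧
      ∀ e : V6, n * φ (Multiplicative.ofAdd e) * n⁻¹ = φ (Multiplicative.ofAdd (mv c e)) := by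
    intro c hc
    obtain ⟨n, hn, hne⟩ := exists_norm_lift hπ hker hE iot3_injective hφ (g := monoA c hc)
      (fun e => Multiplicative.ofAdd (mv c e.toAdd)) fun e => monoA_conj c hc e.toAdd
    exact ⟨n, hn, fun e => hne (Multiplicative.ofAdd e)⟩
  have hmap : ∀ (n : H) (c : Mono),
      (∀ e : V6, n * φ (Multiplicative.ofAdd e) * n⁻¹ = φ (Multiplicative.ofAdd (mv c e))) →
      ∀ w v, v ∈ wsp P ζ w ↔ act n v ∈ wsp P ζ (mv c w) := by
    intro n c hn w v
    have hT : ∀ e, act n * P (Multiplicative.ofAdd e) = P (Multiplicative.ofAdd (mv c e)) * act n :=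
      fun e => by
        show act n * act (φ _) = act (φ _) * act n
        rw [← map_mul, ← map_mul, ← hn, inv_mul_cancel_right]
    constructor
    · refine fun hv => twist_mem P (M := mv c) ?_ hT (fun e => pr_mv c e w) hv
      refine Finite.injective_iff_surjective.mp fun a b h => funext fun i => ?_
      have h1 := congrFun h (c.1 i)
      rw [mv_apply, mv_apply] at h1
      exact (c.2 i).mul_right_inj.mp h1
    · intro hv
      rw [mem_wsp] at hv ⊢
      intro e
      refine hact_inj n ?_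
      rw [← Module.End.mul_apply, hT, Module.End.mul_apply, hv, map_smul]
      simp only [chw, pr_mv]
  have hclass : ∀ w, finrank (AlgebraicClosure K) (wsp P ζ w) =
      finrank (AlgebraicClosure K) (wsp P ζ (rep (sup w))) := by
    intro w
    obtain ⟨hs, hw⟩ := cand_ok w
    obtain ⟨n, -, hn⟩ := hnorm (cand w) hs
    have e : (wsp P ζ (rep (sup w))).map (act n) = wsp P ζ w := by
      ext v
      constructor
      · rintro ⟨u, hu, rfl⟩
        have h := (hmap n _ hn _ u).mp hu
        rwa [hw] at h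
      · intro hv
        obtain ⟨u, rfl⟩ := LinearMap.injective_iff_surjective.mp (hact_inj n) v
        exact ⟨u, (hmap n _ hn _ u).mpr (by rwa [hw]), rfl⟩
    rw [← e]
    exact ((wsp P ζ (rep (sup w))).equivMapOfInjective _ (hact_inj n)).finrank_eq.symm
  set m : ℕ → ℕ := fun k => finrank (AlgebraicClosure K) (wsp P ζ (rep k))
  have hfixjsp : ∀ h : H, finrank (AlgebraicClosure K) (LinearMap.ker (act h - 1)) =
      finrank (AlgebraicClosure K) (jsp
        ((glMap chevE8 f (h : GL chevE8.Idx K) : GL chevE8.Idx (AlgebraicClosure K)) :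
          Matrix chevE8.Idx chevE8.Idx (AlgebraicClosure K))
        ((glMap chevE8 f (h : GL chevE8.Idx K) : GL chevE8.Idx (AlgebraicClosure K)) :
          Matrix chevE8.Idx chevE8.Idx (AlgebraicClosure K)) 1 1) := fun h => by
    exact congrArg
      (fun S : Submodule (AlgebraicClosure K) (chevE8.Idx → AlgebraicClosure K) =>
        finrank (AlgebraicClosure K) S)
      (ker_actHom (glMap chevE8 f (h : GL chevE8.Idx K)))
  have hF : ∀ k : Fin 6,
      finrank (AlgebraicClosure K) (fixSp P (rep (k.val + 1))) ∈ [134, 92, 86, 80] := by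
    intro k
    set x : H := φ (Multiplicative.ofAdd (rep (k.val + 1)))
    have hx3 : x ^ 3 = 1 := by
      rw [← map_pow, ← ofAdd_nsmul,
        show (3 : ℕ) • rep (k.val + 1) = 0 from funext fun i => by
          rw [Pi.smul_apply, nsmul_eq_mul, ZMod.natCast_self, zero_mul]
          rfl, ofAdd_zero, map_one]
    have hx1 : x ≠ 1 := fun h => by
      have h2 := hφ (Multiplicative.ofAdd (rep (k.val + 1)))
      rw [show φ _ = x from rfl, h, map_one, ← map_one iot3] at h2
      exact rep_ne k (congrArg Multiplicative.toAdd (iot3_injective h2)).symm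
    have h := fix_spec (K := K) (p := p) (x := (x : GL chevE8.Idx K)) (c := 1) Nat.prime_three
      (Ne.symm hp3) (by norm_num) fix_three (hX₀ (hHX x.2))
      (by rw [← Subgroup.coe_pow, hx3, Subgroup.coe_one]) (fun e => hx1 (Subtype.ext e))
      (by rw [one_mul, mul_one, pow_one])
    rw [← hfixjsp] at h
    exact h
  obtain ⟨hm1, hm2, hm6, hF3⟩ := mult_forced P hζ h3Ω m hclass hV hF
  -- the stabiliser of the weight of full support
  let L0 : Subgroup H :=
    { carrier := {h | ∃ σ : alternatingGroup (Fin 6), π h = beta σ ∧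
        ∀ e : V6, h * φ (Multiplicative.ofAdd e) * h⁻¹ =
          φ (Multiplicative.ofAdd (mv ((σ : Perm (Fin 6)), 1) e))}
      one_mem' := ⟨1, by rw [map_one, map_one], fun e => by
        rw [one_mul, inv_one, mul_one]
        congr 2
        funext j; simp [mv, Equiv.Perm.one_def]⟩
      mul_mem' := by
        rintro a b ⟨σ, ha, hae⟩ ⟨τ, hb, hbe⟩
        refine ⟨σ * τ, by rw [map_mul, map_mul, ha, hb], fun e => ?_⟩
        rw [show a * b * φ (Multiplicative.ofAdd e) * (a * b)⁻¹ =
          a * (b * φ (Multiplicative.ofAdd e) * b⁻¹) * a⁻¹ by group, hbe, hae]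
        congr 2
        funext j
        simp [mv, Equiv.Perm.mul_def, Equiv.symm_trans_apply]
      inv_mem' := by
        rintro a ⟨σ, ha, hae⟩
        refine ⟨σ⁻¹, by rw [map_inv, map_inv, ha], fun e => ?_⟩
        set e' := mv (((σ⁻¹ : alternatingGroup (Fin 6)) : Perm (Fin 6)), 1) e
        have h := hae e'
        rw [show mv ((σ : Perm (Fin 6)), 1) e' = e from funext fun j => by
          simp [e', mv, Equiv.Perm.inv_def]] at h
        rw [← h]; group }
  set one6 : V6 := rep 6
  have hstab : ∀ h ∈ L0, ∀ v ∈ wsp P ζ one6, act h v ∈ wsp P ζ one6 := by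
    rintro h ⟨σ, -, he⟩ v hv
    have e := (hmap h _ he one6 v).mp hv
    rwa [show mv ((σ : Perm (Fin 6)), 1) one6 = one6 from funext fun j => by
      simp [one6, mv, rep]] at e
  let ρ₀ : L0 →* Module.End (AlgebraicClosure K) (wsp P ζ one6) :=
    { toFun := fun h => (act h).restrict (hstab h h.2)
      map_one' := LinearMap.ext fun v => Subtype.ext (by simp)
      map_mul' := fun g h => LinearMap.ext fun v => Subtype.ext (by simp) }
  have hW6 : finrank (AlgebraicClosure K) (wsp P ζ one6) = 2 := hm6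
  let b := Module.finBasisOfFinrankEq (AlgebraicClosure K) (wsp P ζ one6) hW6
  let ρ : L0 →* Matrix (Fin 2) (Fin 2) (AlgebraicClosure K) :=
    (LinearMap.toMatrixAlgEquiv b).toAlgHom.toRingHom.toMonoidHom.comp ρ₀
  have hσ0 : ∀ h : L0, ∃ σ : alternatingGroup (Fin 6), π h = beta σ := fun h => by
    obtain ⟨σ, hσ, -⟩ := h.2
    exact ⟨σ, hσ⟩
  choose π₆ hπ₆ using hσ0
  let π6 : L0 →* alternatingGroup (Fin 6) := MonoidHom.mk' π₆ fun a b => beta_injective (by
    rw [map_mul, ← hπ₆, ← hπ₆, ← hπ₆, Subgroup.coe_mul, map_mul])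
  have hlift6 : ∀ σ : alternatingGroup (Fin 6), ∃ h : L0, π6 h = σ := fun σ => by
    obtain ⟨n, hn, hne⟩ := hnorm ((σ : Perm (Fin 6)), 1) (msgn_perm σ)
    refine ⟨⟨n, σ, hn, hne⟩, beta_injective ?_⟩
    show beta (π₆ _) = beta σ
    rw [← hπ₆]
    exact hn
  -- trivial action of the elements of order three
  have htriv : ∀ h : L0, (h : H) ^ 3 = 1 → ∀ v ∈ wsp P ζ one6, act h v = v := by
    let S' : Set ℕ := {c | ∃ L : Subgroup L0, L.map π6 = ⊤ ∧ Nat.card L = c}
    obtain ⟨L, hLtop, hLcard⟩ : sInf S' ∈ S' := Nat.sInf_mem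
      ⟨_, ⊤, Subgroup.map_top_of_surjective π6 hlift6, rfl⟩
    have hLs : Function.Surjective (π6.comp L.subtype) := fun a => by
      obtain ⟨y, hy, rfl⟩ := (hLtop.symm ▸ Subgroup.mem_top a : a ∈ L.map π6)
      exact ⟨⟨y, hy⟩, rfl⟩
    have hLmin : ∀ M : Subgroup L, M.map (π6.comp L.subtype) = ⊤ → M = ⊤ := fun M hM => by
      have h1 : sInf S' ≤ Nat.card (M.map L.subtype) :=
        Nat.sInf_le ⟨_, by rw [Subgroup.map_map]; exact hM, rfl⟩
      rw [Subgroup.card_map_of_injective L.subtype_injective, ← hLcard] at h1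
      exact Subgroup.eq_top_of_card_eq M (le_antisymm (Subgroup.card_le_card_group M) h1)
    have hρL := trivial_two (π6.comp L.subtype) hLs hLmin (ρ.comp L.subtype) (by exact_mod_cast h3Ω)
    intro h h3 v hv
    obtain ⟨l, hl⟩ := hLs (π6 h)
    set k : L0 := (l : L0)⁻¹ * h
    have hk : π (k : H) = 1 := by
      rw [hπ₆, show π₆ k = π6 k from rfl, map_mul, map_inv, ← hl, MonoidHom.comp_apply,
        Subgroup.coe_subtype, inv_mul_cancel, map_one]
    have hρ : ρ h = ρ k := by
      rw [map_mul, show ρ (l : L0)⁻¹ = 1 from (hρL l⁻¹), one_mul]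
    have hρk3 : ρ k ^ 3 = 1 := by
      rw [← hρ, ← map_pow, show h ^ 3 = 1 from Subtype.ext (by rw [Subgroup.coe_pow, h3]; rfl),
        map_one]
    have hρkn : ρ k ^ Nat.card π.ker = 1 := by
      rw [← map_pow, show k ^ Nat.card π.ker = 1 from Subtype.ext (by
        rw [Subgroup.coe_pow]
        exact congrArg Subtype.val (pow_card_eq_one' (x := (⟨k, hk⟩ : π.ker)))), map_one]
    have h1 := pow_gcd_eq_one.2 ⟨hρk3, hρkn⟩
    rw [(Nat.prime_three.coprime_iff_not_dvd.2 hker).gcd_eq_one, pow_one, ← hρ] at h1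
    have h2 : ρ₀ h = 1 := (LinearMap.toMatrixAlgEquiv b).injective (by rw [map_one]; exact h1)
    exact congrArg Subtype.val (LinearMap.congr_fun h2 ⟨v, hv⟩)
  -- the lift of the block three-cycle of order three
  obtain ⟨n₃, hn₃, hne₃⟩ := hnorm (t3, 1) (msgn_perm t3A)
  set o := orderOf n₃
  set s := o / 3 ^ o.factorization 3
  have hs : ¬ 3 ∣ s := Nat.not_dvd_ordCompl Nat.prime_three (orderOf_pos n₃).ne'
  obtain ⟨i, -, hi⟩ := Nat.exists_mul_mod_eq_one_of_coprime
    (Nat.prime_three.coprime_iff_not_dvd.mpr hs).symm (by norm_num : 1 < 3)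
  set y := n₃ ^ (s * i)
  have hyπ : π y = beta t3A := by
    show π (n₃ ^ (s * i)) = beta t3A
    rw [map_pow, hn₃, show monoA (t3, 1) (msgn_perm t3A) = beta t3A from rfl, ← map_pow,
      pow_eq_pow_mod _ t3A_pow, hi, pow_one]
  have hy3 : y ^ 3 = 1 := by
    refine orderOf_dvd_zero (k := o.factorization 3) hker ?_ (by rw [map_pow, hyπ, ← map_pow,
      t3A_pow, map_one])
    rw [← pow_mul, ← pow_mul, show s * i * (3 * 3 ^ o.factorization 3) =
      (3 ^ o.factorization 3 * s) * (i * 3) by ring, Nat.mul_div_cancel' (Nat.ordProj_dvd o 3),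
      pow_mul, pow_orderOf_eq_one, one_pow]
  have hmem3 : n₃ ∈ L0 := ⟨t3A, hn₃, hne₃⟩
  obtain ⟨σy, hσy, hye⟩ := (pow_mem hmem3 (s * i) : y ∈ L0)
  obtain rfl : σy = t3A := beta_injective (hσy.symm.trans hyπ)
  have hy : ∀ e : V6, y * φ (Multiplicative.ofAdd e) * y⁻¹ = φ (Multiplicative.ofAdd (t3w e)) := hye
  -- its class
  have hyfix : finrank (AlgebraicClosure K) (LinearMap.ker (act y - 1)) = 86 := by
    obtain ⟨g, hg⟩ := conj_rep_three
    obtain ⟨c, rfl⟩ := hπ g
    set x := φ (Multiplicative.ofAdd (rep 3))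
    have hx3 : x ^ 3 = 1 := by
      rw [← map_pow, ← ofAdd_nsmul, show (3 : ℕ) • rep 3 = 0 from funext fun i => by
          rw [Pi.smul_apply, nsmul_eq_mul, ZMod.natCast_self, zero_mul]
          rfl,
        ofAdd_zero, map_one]
    obtain ⟨k, hk⟩ := conj_of_image hπ hker (x := c * x * c⁻¹) (x' := y)
      (by rw [conj_pow, hx3, mul_one, mul_inv_cancel]) hy3
      (by rw [map_mul, map_mul, map_inv, hφ, hg, hyπ])
      (by rw [hyπ]; exact fun h => t3A_ne (beta_injective (h.trans (map_one beta).symm)))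
    have e : (k * c) * x = y * (k * c) := by rw [← hk]; group
    have e' : ((glMap chevE8 f ((k * c : H) : GL chevE8.Idx K) : GL chevE8.Idx (AlgebraicClosure K)) :
        Matrix chevE8.Idx chevE8.Idx (AlgebraicClosure K)) *
        ((glMap chevE8 f (x : GL chevE8.Idx K) : GL chevE8.Idx (AlgebraicClosure K)) :
          Matrix chevE8.Idx chevE8.Idx (AlgebraicClosure K)) =
        ((glMap chevE8 f (y : GL chevE8.Idx K) : GL chevE8.Idx (AlgebraicClosure K)) :
          Matrix chevE8.Idx chevE8.Idx (AlgebraicClosure K)) *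
        ((glMap chevE8 f ((k * c : H) : GL chevE8.Idx K) : GL chevE8.Idx (AlgebraicClosure K)) :
          Matrix chevE8.Idx chevE8.Idx (AlgebraicClosure K)) := by
      rw [← Units.val_mul, ← Units.val_mul, ← map_mul, ← map_mul, ← Subgroup.coe_mul,
        ← Subgroup.coe_mul, e]
    exact (hfixjsp y).trans ((finrank_jsp_conj _ e' e' 1 1).symm.trans ((hfixjsp x).symm.trans hF3))
  -- the bound
  have hsum := fix_ge P hζ h3Ω (by exact_mod_cast h3Ω) (act y)
    (by rw [← map_mul, ← map_mul, ← pow_three', hy3, map_one]) t3w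
    (fun w v hv => (hmap y (t3, 1) hy w v).mp hv) t3w_cube reps reps_orbit
    (fun w hw hfix v hv => by
      have hs6 := reps_fixed w hw hfix
      obtain ⟨hsg, hmono⟩ := fixed_conj w hs6 hfix
      obtain ⟨hc, hcw⟩ := cand_ok w
      rw [hs6] at hcw
      obtain ⟨n, hnπ, hn⟩ := hnorm (cand w) hc
      obtain ⟨u, rfl⟩ := LinearMap.injective_iff_surjective.mp (hact_inj n) v
      have hu : u ∈ wsp P ζ one6 := (hmap n _ hn one6 u).mpr (by rw [hcw]; exact hv)
      let σ : alternatingGroup (Fin 6) :=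
        ⟨(cand w).1⁻¹ * t3 * (cand w).1, Perm.mem_alternatingGroup.2 hsg⟩
      set y' := n⁻¹ * y * n
      have hmem : y' ∈ L0 := by
        refine ⟨σ, ?_, fun e => ?_⟩
        · rw [map_mul, map_mul, map_inv, hnπ, hyπ, mul_assoc, inv_mul_eq_iff_eq_mul]
          refine Subtype.ext ?_
          show eqv3.permCongr (blk t3 1) * eqv3.permCongr (blk (cand w).1 (cand w).2) =
            eqv3.permCongr (blk (cand w).1 (cand w).2) * eqv3.permCongr (blk (σ : Perm (Fin 6)) 1)
          rw [← Equiv.permCongr_mul, ← Equiv.permCongr_mul, blk_mul (t3, 1) (cand w),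
            blk_mul (cand w) ((σ : Perm (Fin 6)), 1)]
          have e1 : t3 * (cand w).1 = (cand w).1 * (σ : Perm (Fin 6)) := by
            show _ = (cand w).1 * ((cand w).1⁻¹ * t3 * (cand w).1)
            group
          rw [e1]
          refine congrArg (fun u => eqv3.permCongr (blk _ u)) (funext fun i => ?_)
          show (1 : (ZMod 3)ˣ) * (cand w).2 i = (cand w).2 ((σ : Perm (Fin 6)) i) * 1
          rw [one_mul, mul_one]
          exact (hmono i).symm
        · set e' := mv ((σ : Perm (Fin 6)), 1) e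
          have hkey : mv (cand w) e' = t3w (mv (cand w) e) := funext fun j => by
            obtain ⟨i, rfl⟩ := (t3 * (cand w).1).surjective j
            have e2 : t3 ((cand w).1 i) = (cand w).1 ((σ : Perm (Fin 6)) i) := by
              simp [σ]
            have e3 : e' ((σ : Perm (Fin 6)) i) = e i := by
              simpa [e'] using mv_apply ((σ : Perm (Fin 6)), 1) e i
            have e4 : t3w (mv (cand w) e) (t3 ((cand w).1 i)) = mv (cand w) e ((cand w).1 i) := by
              simpa [t3w] using mv_apply (t3, 1) (mv (cand w) e) ((cand w).1 i)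
            rw [Equiv.Perm.mul_apply, e4, e2, mv_apply, mv_apply, e3]
            exact congrArg (fun u : (ZMod 3)ˣ => (u : ZMod 3) * e i) (hmono i)
          calc y' * φ (Multiplicative.ofAdd e) * y'⁻¹
              = n⁻¹ * (y * (n * φ (Multiplicative.ofAdd e) * n⁻¹) * y⁻¹) * n := by
                simp only [y']; group
            _ = n⁻¹ * (n * φ (Multiplicative.ofAdd e') * n⁻¹) * n := by rw [hn, hy, ← hkey, ← hn]
            _ = _ := by group
      have e := htriv ⟨y', hmem⟩ (by
        show (n⁻¹ * y * n) ^ 3 = 1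
        have := conj_pow (i := 3) (a := n⁻¹) (b := y)
        rw [inv_inv] at this
        rw [this, hy3, mul_one, inv_mul_cancel]) u hu
      calc act y (act n u) = act n (act y' u) := by
            rw [← Module.End.mul_apply, ← Module.End.mul_apply, ← map_mul, ← map_mul]
            simp [y', mul_assoc]
        _ = act n u := by rw [e])
  have hge : (88 : ℕ) ≤ ∑ w ∈ reps, finrank (AlgebraicClosure K) (wsp P ζ w) := by
    rw [← reps_sum]
    refine le_of_eq (Finset.sum_congr rfl fun w hw => ?_)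
    rw [hclass w]
    show mult (sup w) = m (sup w)
    rcases (Finset.mem_filter.mp hw).2 with ⟨h | h | h, -⟩ | ⟨h, -⟩ <;> rw [h]
    exacts [hm1.symm, hm2.symm, hm6.symm, hm6.symm]
  exact absurd (hge.trans (hsum.trans hyfix.le)) (by norm_num)

end CfsgLib.E8Sections
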