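import Cfsg.Agent.E7Sections.Torus

/-!
Fixed dimensions of the elements of orders 3 and 17 of `E₈`.
-/

set_option autoImplicit false
set_option linter.style.haveILetI false

namespace CfsgLib.E8Sections

open Cfsg.Lie CfsgLib.Chev CfsgLib.Chev.Tab CfsgLib.E8Three CfsgLib.E7Sections Matrix Module

/-- An element of order prime to the characteristic is diagonalisable with exponents from a
cocharacter. -/
theorem exists_diag {p : ℕ} [Fact p.Prime] {K : Type} [Field K] [Fintype K] [CharP K p] {n : ℕ}
    [NeZero n] (hnp : ¬ p ∣ n) {ξ : AlgebraicClosure K} (hξ : IsPrimitiveRoot ξ n)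
    {x : GL chevE8.Idx K} (hx : x ∈ chevE8.group K) (hxn : x ^ n = 1) :
    ∃ (A : GL chevE8.Idx (AlgebraicClosure K)) (b : Fin chevE8.rank → ℤ),
      (A : Matrix chevE8.Idx chevE8.Idx (AlgebraicClosure K)) *
        ((glMap chevE8 (algebraMap K (AlgebraicClosure K)) x : GL chevE8.Idx (AlgebraicClosure K)) :
          Matrix chevE8.Idx chevE8.Idx (AlgebraicClosure K)) =
        (diagonal fun i => ξ ^ expVec b i) * A := by
  classical
  obtain ⟨F, hF, hF', f₁, a, -, c₀, hconj⟩ :=
    toral good_E8 p InvolData.scE8 sepE8 hnp hx hxn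
  letI := f₁.toAlgebra
  haveI : Module.Finite K F := Module.Finite.of_finite
  let φ : F →+* AlgebraicClosure K :=
    (IsAlgClosed.lift (R := K) (S := F) (M := AlgebraicClosure K)).toRingHom
  have hφ : φ.comp f₁ = algebraMap K (AlgebraicClosure K) :=
    RingHom.ext fun r => (IsAlgClosed.lift (R := K) (S := F) (M := AlgebraicClosure K)).commutes r
  set A := glMap chevE8 φ a
  set d := fun i => Units.map φ.toMonoidHom (c₀ i)
  have hA : A * glMap chevE8 (algebraMap K (AlgebraicClosure K)) x * A⁻¹ = E8Data.tab.hT _ d := by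
    rw [← hφ, ← glMap_comp, ← good_E8.glMap_hT, ← hconj]
    simp only [map_mul, map_inv, A]
  obtain ⟨b, hb⟩ := exists_expVec hξ (d := d) (by
    rw [← hA, conj_pow, ← map_pow, hxn, map_one, mul_one, mul_inv_cancel])
  exact ⟨A, b, by rw [← hb, ← hA, ← Units.val_mul, ← Units.val_mul, inv_mul_cancel_right]⟩

/-- Invariance of a count vector under a multiplier. -/
def mulInv (n g : ℕ) (v : List ℕ) : Bool :=
  (List.range n).all fun k => v.getD k 0 == v.getD (g * k % n) 0

/-- The fixed dimensions for the order `n` and the multiplier `g`. -/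
def chkFix (n g : ℕ) (tbl : List ℕ) : Bool :=
  (kac n).all fun a =>
    !(mulInv n g (mvec n a)) || (mvec n a).getD 0 0 == 248 || tbl.contains ((mvec n a).getD 0 0)

theorem fix_three : chkFix 3 1 [134, 92, 86, 80] = true := by decide +kernel

theorem fix_seventeen : chkFix 17 3 [] = true := by decide +kernel

theorem card_idx : Fintype.card chevE8.Idx = 248 := by decide +kernel

/-- The fixed dimension of an element with a power conjugate to it. -/
theorem fix_spec {p : ℕ} [Fact p.Prime] {K : Type} [Field K] [Fintype K] [CharP K p] {n g : ℕ}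
    {tbl : List ℕ} (hn : n.Prime) (hnp : n ≠ p) (hg : ¬ n ∣ g) (hchk : chkFix n g tbl = true)
    {x c : GL chevE8.Idx K} (hx : x ∈ chevE8.group K) (hxn : x ^ n = 1) (hx1 : x ≠ 1)
    (hcx : c * x = x ^ g * c) :
    finrank (AlgebraicClosure K) (jsp
      ((glMap chevE8 (algebraMap K (AlgebraicClosure K)) x : GL chevE8.Idx (AlgebraicClosure K)) :
        Matrix chevE8.Idx chevE8.Idx (AlgebraicClosure K))
      ((glMap chevE8 (algebraMap K (AlgebraicClosure K)) x : GL chevE8.Idx (AlgebraicClosure K)) :
        Matrix chevE8.Idx chevE8.Idx (AlgebraicClosure K)) 1 1) ∈ tbl := by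
  classical
  haveI : NeZero n := ⟨hn.ne_zero⟩
  haveI : Fact n.Prime := ⟨hn⟩
  have hp : p.Prime := Fact.out
  haveI : CharP (AlgebraicClosure K) p :=
    charP_of_injective_ringHom (algebraMap K (AlgebraicClosure K)).injective p
  obtain ⟨ξ, hξ⟩ := AltSection.exists_root (K := AlgebraicClosure K)
    (AltSection.natCast_ne_zero_of_prime hp hn (Ne.symm hnp))
  set f := algebraMap K (AlgebraicClosure K)
  obtain ⟨A, b, hA⟩ := exists_diag
    (fun h => hnp ((Nat.prime_dvd_prime_iff_eq hp hn).mp h).symm) hξ hx hxn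
  set X := ((glMap chevE8 f x : GL chevE8.Idx (AlgebraicClosure K)) :
    Matrix chevE8.Idx chevE8.Idx (AlgebraicClosure K)) with hX
  set X' := ((glMap chevE8 f (x ^ g) : GL chevE8.Idx (AlgebraicClosure K)) :
    Matrix chevE8.Idx chevE8.Idx (AlgebraicClosure K)) with hX'
  have hdim : ∀ k : ℤ,
      finrank (AlgebraicClosure K) (jsp X X (ξ ^ k) (ξ ^ k)) = cnt n b k := fun k => by
    rw [finrank_jsp_conj A hA hA, finrank_jsp_diag, cnt]
    refine congrArg Finset.card (Finset.filter_congr fun i _ => ?_)
    rw [and_self, zpow_eq_iff hξ hn.ne_zero]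
  have hA' : (A : Matrix chevE8.Idx chevE8.Idx (AlgebraicClosure K)) * X' =
      (diagonal fun i => ξ ^ ((g : ℤ) * expVec b i)) * A := by
    have e : ∀ k : ℕ, (A : Matrix chevE8.Idx chevE8.Idx (AlgebraicClosure K)) * X ^ k =
        (diagonal fun i => ξ ^ expVec b i) ^ k * A := by
      intro k
      induction k with
      | zero => simp
      | succ k ih => rw [pow_succ, ← mul_assoc, ih, mul_assoc, hA, ← mul_assoc, ← pow_succ]
    rw [hX', map_pow, Units.val_pow_eq_pow_val, ← hX, e, diagonal_pow]
    refine congrArg (fun D => diagonal D * _) (funext fun i => ?_)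
    rw [Pi.pow_apply, ← _root_.zpow_natCast, ← _root_.zpow_mul, mul_comm]
  have hC : ((glMap chevE8 f c : GL chevE8.Idx (AlgebraicClosure K)) :
      Matrix chevE8.Idx chevE8.Idx (AlgebraicClosure K)) * X =
      X' * ((glMap chevE8 f c : GL chevE8.Idx (AlgebraicClosure K)) :
        Matrix chevE8.Idx chevE8.Idx (AlgebraicClosure K)) := by
    rw [← Units.val_mul, ← Units.val_mul, ← map_mul, ← map_mul, hcx]
  have hinv : ∀ k : ℤ, cnt n b (g * k) = cnt n b k := fun k => by
    rw [← hdim, finrank_jsp_conj (glMap chevE8 f c) hC hC, finrank_jsp_conj A hA' hA',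
      finrank_jsp_diag, cnt]
    refine congrArg Finset.card (Finset.filter_congr fun i _ => ?_)
    rw [and_self, zpow_eq_iff hξ hn.ne_zero, ← mul_sub]
    exact ⟨fun hd => (Int.Prime.dvd_mul' hn hd).resolve_left fun h =>
      hg (Int.natCast_dvd_natCast.mp h), fun hd => hd.mul_left _⟩
  have h248 : cnt n b 0 ≠ 248 := fun h => by
    refine hx1 (glMap_injective f (Units.ext ?_))
    have h1 : ∀ i, ξ ^ expVec b i = 1 := fun i => by
      rw [hξ.zpow_eq_one_iff_dvd]
      rw [cnt, ← card_idx, ← Finset.card_univ, Finset.card_filter_eq_iff] at h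
      simpa using h i (Finset.mem_univ i)
    rw [map_one, Units.val_one, ← hX]
    have e : (A : Matrix chevE8.Idx chevE8.Idx (AlgebraicClosure K)) * X = A := by
      rw [hA, show (fun i => ξ ^ expVec b i) = fun _ => (1 : AlgebraicClosure K) from funext h1,
        diagonal_one, one_mul]
    calc X = ((A⁻¹ * A : GL chevE8.Idx (AlgebraicClosure K)) : Matrix chevE8.Idx chevE8.Idx _) * X := by
          rw [inv_mul_cancel, Units.val_one, one_mul]
      _ = 1 := by rw [Units.val_mul, mul_assoc, e, ← Units.val_mul, inv_mul_cancel, Units.val_one]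
  obtain ⟨a, ha, hav⟩ := List.mem_map.mp (cntVec_mem hn.pos b)
  have hget : ∀ k, k < n → (mvec n a).getD k 0 = cnt n b (k : ℤ) := fun k hk => by
    rw [hav, cntVec, List.getD_eq_getElem _ _ (by simpa using hk), List.getElem_map,
      List.getElem_range]
  have hgi : mulInv n g (mvec n a) = true := by
    simp only [mulInv, List.all_eq_true, List.mem_range, beq_iff_eq]
    intro k hk
    rw [hget k hk, hget _ (Nat.mod_lt _ hn.pos), ← hinv]
    refine congrArg Finset.card (Finset.filter_congr fun i _ => dvd_iff_dvd_of_dvd_sub ?_)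
    rw [Int.natCast_mod, Nat.cast_mul]
    exact ⟨-((g * (k : ℤ)) / n), by rw [Int.emod_def]; push_cast; ring⟩
  have h := List.all_eq_true.mp hchk a ha
  rw [hgi, hget 0 hn.pos] at h
  simp only [Nat.cast_zero, Bool.not_true, Bool.false_or, Bool.or_eq_true, beq_iff_eq,
    List.contains_iff_mem] at h
  rw [← _root_.zpow_zero ξ, hdim]
  exact h.resolve_left h248

end CfsgLib.E8Sections
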